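import Mathlib
import Cfsg.Agent.H39.Fusion

/-!
# helper39: generalized quaternion subgroups, abstract interface and the reduction to `Q₈`
-/

set_option autoImplicit false

namespace Cfsg.Agent.H39

open QuaternionGroup

local notation "N(" Q ")" => Subgroup.normalizer (SetLike.coe (Q : Subgroup _))
local notation "cj(" g ", " Q ")" => Subgroup.map (MulEquiv.toMonoidHom (MulAut.conj g)) Q

/-- Abstract interface of a generalized quaternion subgroup `T`: a unique involution `z`,
and an element `c` such that the elements of `T` outside `⟨c⟩` square to `z` and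
`⟨c⟩` has index at most two. -/
structure QIface {G : Type*} [Group G] (T : Subgroup G) (c z : G) : Prop where
  z_ne : z ≠ 1
  z_sq : z ^ 2 = 1
  invol : ∀ t ∈ T, t ^ 2 = 1 → t = 1 ∨ t = z
  sq : ∀ t ∈ T, t ∉ Subgroup.zpowers c → t ^ 2 = z
  prod : ∀ s ∈ T, ∀ t ∈ T, s ∉ Subgroup.zpowers c → t ∉ Subgroup.zpowers c →
    s⁻¹ * t ∈ Subgroup.zpowers c

section QG

variable {m : ℕ} [NeZero m]

theorem gq_a_mem_zpowers (i : ZMod (2 * m)) :
    (a i : QuaternionGroup m) ∈ Subgroup.zpowers (a 1 : QuaternionGroup m) := by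
  have h : (a 1 : QuaternionGroup m) ^ i.val = a i := by
    rw [a_one_pow, ZMod.natCast_zmod_val]
  rw [← h]
  exact Subgroup.pow_mem _ (Subgroup.mem_zpowers _) _

theorem gq_natCast_ne_zero : (m : ZMod (2 * m)) ≠ 0 := by
  intro h
  rw [ZMod.natCast_eq_zero_iff] at h
  have hm : m ≠ 0 := NeZero.ne m
  have := Nat.le_of_dvd (Nat.pos_of_ne_zero hm) h
  omega

theorem gq_a_natCast_ne_one : (a (m : ZMod (2 * m)) : QuaternionGroup m) ≠ 1 := by
  intro h
  rw [one_def] at h
  injection h with h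
  exact gq_natCast_ne_zero h

theorem gq_a_natCast_sq : (a (m : ZMod (2 * m)) : QuaternionGroup m) ^ 2 = 1 := by
  rw [sq, a_mul_a, one_def]
  congr 1
  have : ((2 * m : ℕ) : ZMod (2 * m)) = 0 := ZMod.natCast_self _
  rw [← this]
  push_cast
  ring

theorem gq_sq_eq_one {q : QuaternionGroup m} (h : q ^ 2 = 1) :
    q = 1 ∨ q = a (m : ZMod (2 * m)) := by
  rcases q with i | i
  · rw [sq, a_mul_a, one_def] at h
    injection h with h
    have h1 : ((i.val + i.val : ℕ) : ZMod (2 * m)) = 0 := by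
      push_cast
      rw [ZMod.natCast_zmod_val]
      exact h
    rw [ZMod.natCast_eq_zero_iff] at h1
    have hlt := ZMod.val_lt i
    obtain ⟨k, hk⟩ := h1
    have hm : 0 < m := Nat.pos_of_ne_zero (NeZero.ne m)
    have hk2 : k < 2 := by
      by_contra hcon
      push Not at hcon
      have : 2 * m * 2 ≤ 2 * m * k := Nat.mul_le_mul_left _ hcon
      omega
    interval_cases k
    · left
      have : i.val = 0 := by omega
      rw [one_def]
      congr 1
      exact (ZMod.val_eq_zero i).mp this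
    · right
      have : i.val = m := by omega
      congr 1
      rw [← ZMod.natCast_zmod_val i, this]
  · exfalso
    rw [xa_sq, one_def] at h
    injection h with h
    exact gq_natCast_ne_zero h

theorem gq_xa_inv_mul_xa (i j : ZMod (2 * m)) :
    (xa i : QuaternionGroup m)⁻¹ * xa j = a (j - i) := by
  rw [inv_mul_eq_iff_eq_mul, xa_mul_a]
  congr 1
  ring

end QG

/-- A subgroup isomorphic to a (generalized) quaternion group satisfies the interface. -/
theorem qiface_of_equiv {G : Type*} [Group G] (T : Subgroup G) (m : ℕ) [NeZero m]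
    (e : T ≃* QuaternionGroup m) : ∃ c z : G, QIface T c z := by
  let ψ : QuaternionGroup m →* G := T.subtype.comp e.symm.toMonoidHom
  have hψinj : Function.Injective ψ := by
    intro x y h
    exact e.symm.injective (Subtype.ext h)
  have hψ : ∀ t ∈ T, ∃ q, ψ q = t := by
    intro t ht
    refine ⟨e ⟨t, ht⟩, ?_⟩
    change ((e.symm (e ⟨t, ht⟩) : T) : G) = t
    rw [MulEquiv.symm_apply_apply]
  have hψa : ∀ i, ψ (a i) ∈ Subgroup.zpowers (ψ (a 1)) := by
    intro i
    obtain ⟨k, hk⟩ := Subgroup.mem_zpowers_iff.mp (gq_a_mem_zpowers (m := m) i)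
    rw [← hk, map_zpow]
    exact Subgroup.zpow_mem_zpowers _ _
  refine ⟨ψ (a 1), ψ (a (m : ZMod (2 * m))), ?_, ?_, ?_, ?_, ?_⟩
  · intro h
    rw [← map_one ψ] at h
    exact gq_a_natCast_ne_one (hψinj h)
  · rw [← map_pow, gq_a_natCast_sq, map_one]
  · intro t ht h2
    obtain ⟨q, rfl⟩ := hψ t ht
    rw [← map_pow, ← map_one ψ] at h2
    rcases gq_sq_eq_one (hψinj h2) with h | h
    · left; rw [h, map_one]
    · right; rw [h]
  · intro t ht hc
    obtain ⟨q, rfl⟩ := hψ t ht
    rcases q with i | i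
    · exact absurd (hψa i) hc
    · rw [← map_pow, xa_sq]
  · intro s hs t ht hsc htc
    obtain ⟨q, rfl⟩ := hψ s hs
    obtain ⟨q', rfl⟩ := hψ t ht
    rcases q with i | i
    · exact absurd (hψa i) hsc
    rcases q' with j | j
    · exact absurd (hψa j) htc
    rw [← map_inv, ← map_mul, gq_xa_inv_mul_xa]
    exact hψa _

variable {G : Type*} [Group G]

/-- An element of odd order normalizing a cyclic `2`-group centralizes it. -/
theorem conj_eq_of_mem_zpowers [Finite G] {x g : G} (hx : ∃ k : ℕ, x ^ 2 ^ k = 1)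
    (hg : (orderOf g).Coprime 2) (h : g * x * g⁻¹ ∈ Subgroup.zpowers x) : g * x * g⁻¹ = x := by
  classical
  obtain ⟨k, hk⟩ := hx
  set X := Subgroup.zpowers x with hX
  have hgN : g ∈ N(X) := by
    apply mem_normalizer_of_conjMap_le
    rintro _ ⟨u, hu, rfl⟩
    obtain ⟨j, rfl⟩ := Subgroup.mem_zpowers_iff.mp hu
    change g * x ^ j * g⁻¹ ∈ X
    rw [← conj_zpow]
    exact Subgroup.zpow_mem _ h j
  obtain ⟨j, hj⟩ : ∃ j, Nat.card X = 2 ^ j := by
    rw [hX, Nat.card_zpowers]
    obtain ⟨j, -, hj⟩ := (Nat.dvd_prime_pow Nat.prime_two).1 (orderOf_dvd_of_pow_eq_one hk)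
    exact ⟨j, hj⟩
  let α := X.normalizerMonoidHom ⟨g, hgN⟩
  have h1 : orderOf α ∣ orderOf g := by
    have := orderOf_map_dvd X.normalizerMonoidHom (⟨g, hgN⟩ : N(X))
    rwa [Subgroup.orderOf_mk] at this
  have h2 : orderOf α ∣ 2 ^ j := by
    have h3 : orderOf α ∣ Nat.card (MulAut X) := orderOf_dvd_natCard α
    rw [IsCyclic.card_mulAut, hj] at h3
    rcases Nat.eq_zero_or_pos j with rfl | hj0
    · simpa using h3
    · rw [Nat.totient_prime_pow Nat.prime_two hj0] at h3
      simp only [Nat.add_one_sub_one, mul_one] at h3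
      exact h3.trans (pow_dvd_pow 2 (Nat.sub_le j 1))
  have h4 : orderOf α = 1 :=
    Nat.Coprime.eq_one_of_dvd (Nat.Coprime.coprime_dvd_left h1 (hg.pow_right j)) h2
  have h5 : α = 1 := orderOf_eq_one_iff.mp h4
  have h6 : (⟨g, hgN⟩ : N(X)) ∈ X.normalizerMonoidHom.ker := h5
  rw [Subgroup.normalizerMonoidHom_ker, Subgroup.mem_subgroupOf, Subgroup.mem_centralizer_iff] at h6
  have h7 : x * g = g * x := h6 x (Subgroup.mem_zpowers x)
  rw [← h7, mul_inv_cancel_right]

end Cfsg.Agent.H39
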