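import Mathlib
import Cfsg.Agent.H6.Q8SL

/-!
# helper39: a quaternion group of order 8 with an odd-order element acting on it as an
automorphism of order three gives a section isomorphic to `SL(2,3)`
-/

set_option autoImplicit false

namespace Cfsg.Agent.H39

open QuaternionGroup

/-- A section from a pair of homomorphisms. -/
theorem section_of_homs {Γ G S : Type*} [Group Γ] [Group G] [Group S] (π : Γ →* G) (F : Γ →* S)
    (hF : Function.Surjective F) (hker : π.ker ≤ F.ker) :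
    ∃ (H K : Subgroup G) (hK : (K.subgroupOf H).Normal), Nonempty ((H ⧸ K.subgroupOf H) ≃* S) := by
  let φ : π.range →* S := (π.rangeRestrict).liftOfSurjective π.rangeRestrict_surjective
    ⟨F, by rwa [π.ker_rangeRestrict]⟩
  have hφ : ∀ γ, φ (π.rangeRestrict γ) = F γ := fun γ =>
    MonoidHom.liftOfRightInverse_comp_apply _ _ _ _ γ
  have hφs : Function.Surjective φ := by
    intro s
    obtain ⟨γ, rfl⟩ := hF s
    exact ⟨π.rangeRestrict γ, hφ γ⟩
  have hsub : (φ.ker.map π.range.subtype).subgroupOf π.range = φ.ker := by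
    ext x
    rw [Subgroup.mem_subgroupOf, Subgroup.mem_map]
    constructor
    · rintro ⟨y, hy, hyx⟩
      rwa [← Subtype.ext hyx]
    · intro hx
      exact ⟨x, hx, rfl⟩
  have key : ∀ (K' : Subgroup π.range), K' = φ.ker →
      ∃ (hK : K'.Normal), Nonempty ((π.range ⧸ K') ≃* S) := by
    rintro K' rfl
    exact ⟨inferInstance, ⟨QuotientGroup.quotientKerEquivOfSurjective φ hφs⟩⟩
  obtain ⟨hK, hne⟩ := key _ hsub
  exact ⟨π.range, _, hK, hne⟩

theorem intertwine_zpow {N H : Type*} [Group N] [Group H] (f : N →* H) (σ : MulAut N) (c : H)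
    (h : ∀ x, f (σ x) = c * f x * c⁻¹) (j : ℤ) (x : N) :
    f ((σ ^ j) x) = c ^ j * f x * (c ^ j)⁻¹ := by
  induction j using Int.induction_on generalizing x with
  | zero => simp
  | succ j ih =>
    rw [zpow_add_one, MulAut.mul_apply, ih, h, zpow_add_one]; group
  | pred j ih =>
    have h' : ∀ y, f (σ⁻¹ y) = c⁻¹ * f y * c := by
      intro y
      have := h (σ⁻¹ y)
      rw [MulAut.apply_inv_self] at this
      rw [this]; group
    rw [zpow_sub_one, MulAut.mul_apply, ih, h', zpow_sub_one]; group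

section Lift

variable {G : Type*} [Group G]

/-- the map `Q₈ → G` attached to two elements -/
def q8Fun (a b : G) : QuaternionGroup 2 → G
  | QuaternionGroup.a i => a ^ i.val
  | QuaternionGroup.xa i => b * a ^ i.val

theorem q8_pw_add {a : G} (ha4 : a ^ 4 = 1) (i j : ZMod (2 * 2)) :
    a ^ (i + j).val = a ^ i.val * a ^ j.val := by
  have h4 : a ^ (2 * 2) = 1 := ha4
  rw [← pow_add, ZMod.val_add]
  exact (pow_eq_pow_mod _ h4).symm

theorem q8_pw_neg {a : G} (ha4 : a ^ 4 = 1) (i : ZMod (2 * 2)) :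
    a ^ (-i).val = (a ^ i.val)⁻¹ := by
  apply eq_inv_of_mul_eq_one_left
  rw [← q8_pw_add ha4, neg_add_cancel, ZMod.val_zero, pow_zero]

theorem q8_pw_sub {a : G} (ha4 : a ^ 4 = 1) (i j : ZMod (2 * 2)) :
    a ^ (j - i).val = (a ^ i.val)⁻¹ * a ^ j.val := by
  rw [sub_eq_neg_add, q8_pw_add ha4, q8_pw_neg ha4]

theorem q8_pw_comm {a b : G} (hab : a * b = b * a⁻¹) (k : ℕ) : a ^ k * b = b * (a ^ k)⁻¹ := by
  induction k with
  | zero => simp
  | succ k ih =>
    rw [pow_succ, mul_assoc, hab, ← mul_assoc, ih, mul_assoc, ← mul_inv_rev, ← pow_succ', pow_succ]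

/-- the homomorphism `Q₈ → G` attached to two elements satisfying the quaternion relations -/
def q8Lift (a b : G) (ha4 : a ^ 4 = 1) (hb : b ^ 2 = a ^ 2) (hab : a * b = b * a⁻¹) :
    QuaternionGroup 2 →* G where
  toFun := q8Fun a b
  map_one' := by
    rw [QuaternionGroup.one_def]
    simp [q8Fun]
  map_mul' := by
    rintro (i | i) (j | j)
    · rw [a_mul_a]; exact q8_pw_add ha4 i j
    · rw [a_mul_xa]
      change b * a ^ (j - i).val = a ^ i.val * (b * a ^ j.val)
      rw [q8_pw_sub ha4, ← mul_assoc (a ^ i.val), q8_pw_comm hab, mul_assoc]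
    · rw [xa_mul_a]
      change b * a ^ (i + j).val = b * a ^ i.val * a ^ j.val
      rw [q8_pw_add ha4, mul_assoc]
    · rw [xa_mul_xa]
      change a ^ (((2 : ℕ) : ZMod (2 * 2)) + j - i).val = b * a ^ i.val * (b * a ^ j.val)
      rw [add_sub_assoc, q8_pw_add ha4, q8_pw_sub ha4]
      have h2 : (((2 : ℕ) : ZMod (2 * 2))).val = 2 := rfl
      rw [h2, ← hb, mul_assoc b, ← mul_assoc (a ^ i.val), q8_pw_comm hab, sq]
      simp only [mul_assoc]

theorem q8Lift_a_one (a b : G) (ha4 : a ^ 4 = 1) (hb : b ^ 2 = a ^ 2) (hab : a * b = b * a⁻¹) :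
    q8Lift a b ha4 hb hab (QuaternionGroup.a 1) = a := by
  change a ^ (1 : ZMod (2 * 2)).val = a
  have : (1 : ZMod (2 * 2)).val = 1 := rfl
  rw [this, pow_one]

theorem q8Lift_a (a b : G) (ha4 : a ^ 4 = 1) (hb : b ^ 2 = a ^ 2) (hab : a * b = b * a⁻¹)
    (i : ZMod (2 * 2)) : q8Lift a b ha4 hb hab (QuaternionGroup.a i) = a ^ i.val := rfl

theorem q8Lift_xa (a b : G) (ha4 : a ^ 4 = 1) (hb : b ^ 2 = a ^ 2) (hab : a * b = b * a⁻¹)
    (i : ZMod (2 * 2)) : q8Lift a b ha4 hb hab (QuaternionGroup.xa i) = b * a ^ i.val := rfl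

theorem q8_cases : ∀ x : QuaternionGroup 2, x = 1 ∨ x = a 2 ∨ x ^ 2 = a 2 := by decide

theorem q8Lift_injective (a b : G) (ha4 : a ^ 4 = 1) (hb : b ^ 2 = a ^ 2) (hab : a * b = b * a⁻¹)
    (ha2 : a ^ 2 ≠ 1) : Function.Injective (q8Lift a b ha4 hb hab) := by
  rw [injective_iff_map_eq_one]
  intro x hx
  have h2 : q8Lift a b ha4 hb hab (QuaternionGroup.a 2) = a ^ 2 := rfl
  rcases q8_cases x with h | h | h
  · exact h
  · exfalso; rw [h, h2] at hx; exact ha2 hx
  · exfalso
    have := congrArg (q8Lift a b ha4 hb hab) h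
    rw [map_pow, hx, one_pow, h2] at this
    exact ha2 this.symm

theorem q8_hom_ext {M : Type*} [Monoid M] {f₁ f₂ : QuaternionGroup 2 →* M}
    (h1 : f₁ (a 1) = f₂ (a 1)) (h2 : f₁ (xa 0) = f₂ (xa 0)) : f₁ = f₂ := by
  have ha : ∀ i : ZMod (2 * 2), f₁ (a i) = f₂ (a i) := by
    intro i
    have : (a i : QuaternionGroup 2) = a 1 ^ i.val := by rw [a_one_pow, ZMod.natCast_zmod_val]
    rw [this, map_pow, map_pow, h1]
  ext x
  rcases x with i | i
  · exact ha i
  · have : (xa i : QuaternionGroup 2) = xa 0 * a i := by rw [xa_mul_a, zero_add]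
    rw [this, map_mul, map_mul, h2, ha]

end Lift

/-- the automorphism of order three of `Q₈` -/
def q8SigmaFun : QuaternionGroup 2 → QuaternionGroup 2
  | QuaternionGroup.a i => (![a 0, xa 0, a 2, xa 2] : Fin 4 → _) i
  | QuaternionGroup.xa i => (![xa 3, a 3, xa 1, a 1] : Fin 4 → _) i

theorem q8SigmaFun_mul :
    ∀ x y : QuaternionGroup 2, q8SigmaFun (x * y) = q8SigmaFun x * q8SigmaFun y := by decide

theorem q8SigmaFun_cube :
    ∀ x : QuaternionGroup 2, q8SigmaFun (q8SigmaFun (q8SigmaFun x)) = x := by decide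

/-- the automorphism of order three of `Q₈` -/
def q8Sigma : MulAut (QuaternionGroup 2) where
  toFun := q8SigmaFun
  invFun := fun x => q8SigmaFun (q8SigmaFun x)
  left_inv := q8SigmaFun_cube
  right_inv := q8SigmaFun_cube
  map_mul' := q8SigmaFun_mul

theorem q8Sigma_apply (x : QuaternionGroup 2) : q8Sigma x = q8SigmaFun x := rfl

theorem q8Sigma_cube : q8Sigma ^ 3 = 1 := by
  ext x
  rw [pow_succ, pow_succ, pow_one]
  exact q8SigmaFun_cube x

theorem q8Sigma_ne_one : q8Sigma ≠ 1 := by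
  intro h
  have : q8SigmaFun (a 1) = a 1 := DFunLike.congr_fun h (a 1)
  revert this
  decide

/-- an element of order three of `SL₂(3)` normalizing `Q₈` -/
def q8CMat : Matrix (Fin 2) (Fin 2) (ZMod 3) := !![1, 1; 0, 1]

theorem q8CMat_det : q8CMat.det = 1 := by
  rw [Matrix.det_fin_two]; decide

/-- an element of order three of `SL₂(3)` normalizing `Q₈` -/
def q8C : Matrix.SpecialLinearGroup (Fin 2) (ZMod 3) := ⟨q8CMat, q8CMat_det⟩

theorem q8C_conj_mat :
    ∀ x : QuaternionGroup 2, q8CMat * H6.q8Mat x = H6.q8Mat (q8SigmaFun x) * q8CMat := by decide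

theorem q8C_conj (x : QuaternionGroup 2) :
    H6.q8Hom (q8Sigma x) = q8C * H6.q8Hom x * q8C⁻¹ := by
  rw [eq_mul_inv_iff_mul_eq]
  apply Subtype.ext
  exact (q8C_conj_mat x).symm

theorem q8CMat_cube : q8CMat * q8CMat * q8CMat = 1 := by decide

theorem q8C_cube : q8C ^ 3 = 1 := by
  rw [pow_succ, pow_succ, pow_one]
  exact Subtype.ext q8CMat_cube

theorem q8C_not_mem : q8C ∉ H6.q8Hom.range := by
  rw [H6.mem_range_q8Hom_iff]
  intro h
  rw [pow_succ, q8C_cube, one_mul] at h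
  have h1 : q8CMat 0 1 = (1 : Matrix (Fin 2) (Fin 2) (ZMod 3)) 0 1 :=
    congrArg (fun M : Matrix.SpecialLinearGroup (Fin 2) (ZMod 3) => M.1 0 1) h
  revert h1
  decide

theorem q8_section {G : Type*} [Group G] {a b g : G} (ha4 : a ^ 4 = 1) (ha2 : a ^ 2 ≠ 1)
    (hb : b ^ 2 = a ^ 2) (hab2 : (a * b) ^ 2 = a ^ 2) (hga : g * a * g⁻¹ = b)
    (hgb : g * b * g⁻¹ = a * b) (hgo : (orderOf g).Coprime 2) :
    ∃ (H K : Subgroup G) (hK : (K.subgroupOf H).Normal),
      Nonempty ((H ⧸ K.subgroupOf H) ≃* Matrix.SpecialLinearGroup (Fin 2) (ZMod 3)) := by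
  have h4 : a⁻¹ = a ^ 3 := by
    apply inv_eq_of_mul_eq_one_right
    rw [← pow_succ']; exact ha4
  have hab : a * b = b * a⁻¹ := by
    have h1 : a * (b * a * b) = a * a := by
      rw [← sq a, ← hab2, sq]; simp only [mul_assoc]
    have h2 : b * a * b = a := mul_left_cancel h1
    have h3 : b⁻¹ = b * a ^ 2 := by
      apply inv_eq_of_mul_eq_one_right
      rw [← mul_assoc, ← sq, hb, ← pow_add]; exact ha4
    calc a * b = b⁻¹ * (b * a * b) := by group
      _ = b⁻¹ * a := by rw [h2]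
      _ = b * a ^ 2 * a := by rw [h3]
      _ = b * a ^ 3 := by rw [mul_assoc, ← pow_succ]
      _ = b * a⁻¹ := by rw [h4]
  obtain ⟨θ, hθdef⟩ : ∃ θ : QuaternionGroup 2 →* G, θ = q8Lift a b ha4 hb hab := ⟨_, rfl⟩
  have hθinj : Function.Injective θ := hθdef ▸ q8Lift_injective a b ha4 hb hab ha2
  have hθσ : ∀ x, θ (q8Sigma x) = g * θ x * g⁻¹ := by
    have : θ.comp q8Sigma.toMonoidHom = (MulAut.conj g).toMonoidHom.comp θ := by
      apply q8_hom_ext
      · change θ (q8SigmaFun (QuaternionGroup.a 1)) = g * θ (QuaternionGroup.a 1) * g⁻¹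
        have e1 : q8SigmaFun (QuaternionGroup.a 1) = xa 0 := rfl
        rw [e1, hθdef, q8Lift_a_one, q8Lift_xa, hga]
        simp
      · change θ (q8SigmaFun (xa 0)) = g * θ (xa 0) * g⁻¹
        have e1 : q8SigmaFun (xa 0) = xa 3 := rfl
        have e2 : (3 : ZMod (2 * 2)).val = 3 := rfl
        have e3 : (0 : ZMod (2 * 2)).val = 0 := rfl
        rw [e1, hθdef, q8Lift_xa, q8Lift_xa, e2, e3, pow_zero, mul_one, hgb, hab, h4]
    intro x
    exact DFunLike.congr_fun this x
  obtain ⟨π, hπ⟩ : ∃ π : QuaternionGroup 2 ⋊[zpowersHom (MulAut (QuaternionGroup 2)) q8Sigma]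
      Multiplicative ℤ →* G, ∀ γ, π γ = θ γ.left * g ^ (Multiplicative.toAdd γ.right) :=
    ⟨SemidirectProduct.lift θ (zpowersHom G g) (by
      intro k
      refine MonoidHom.ext fun x => ?_
      simp only [MonoidHom.comp_apply, MulEquiv.coe_toMonoidHom, MulAut.conj_apply,
        zpowersHom_apply]
      exact intertwine_zpow θ q8Sigma g hθσ _ x), fun γ => rfl⟩
  obtain ⟨F, hF⟩ : ∃ F : QuaternionGroup 2 ⋊[zpowersHom (MulAut (QuaternionGroup 2)) q8Sigma]
      Multiplicative ℤ →* Matrix.SpecialLinearGroup (Fin 2) (ZMod 3),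
      ∀ γ, F γ = H6.q8Hom γ.left * q8C ^ (Multiplicative.toAdd γ.right) :=
    ⟨SemidirectProduct.lift H6.q8Hom (zpowersHom _ q8C) (by
      intro k
      refine MonoidHom.ext fun x => ?_
      simp only [MonoidHom.comp_apply, MulEquiv.coe_toMonoidHom, MulAut.conj_apply,
        zpowersHom_apply]
      exact intertwine_zpow H6.q8Hom q8Sigma q8C q8C_conj _ x),
      fun γ => rfl⟩
  have hker : π.ker ≤ F.ker := by
    intro γ hγ
    rw [MonoidHom.mem_ker] at hγ ⊢
    rw [hπ] at hγ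
    rw [hF]
    obtain ⟨x, hx⟩ : ∃ x, x = γ.left := ⟨_, rfl⟩
    obtain ⟨j, hj⟩ : ∃ j, j = Multiplicative.toAdd γ.right := ⟨_, rfl⟩
    rw [← hx, ← hj] at hγ ⊢
    have h2 : θ x = (g ^ j)⁻¹ := eq_inv_of_mul_eq_one_left hγ
    have h3 : (g ^ j) ^ 4 = 1 := by
      have : (θ x) ^ 4 = 1 := by rw [← map_pow, H6.q8_pow_four, map_one]
      rw [h2, inv_pow, inv_eq_one] at this
      exact this
    have h4' : g ^ j = 1 := by
      have d1 : orderOf (g ^ j) ∣ 2 ^ 2 := orderOf_dvd_of_pow_eq_one h3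
      have d2 : orderOf (g ^ j) ∣ orderOf g :=
        orderOf_dvd_of_mem_zpowers (Subgroup.zpow_mem_zpowers g j)
      have := Nat.Coprime.eq_one_of_dvd (Nat.Coprime.coprime_dvd_left d2 (hgo.pow_right 2)) d1
      exact orderOf_eq_one_iff.mp this
    have h5 : x = 1 := by
      apply hθinj
      rw [h2, h4', inv_one, map_one]
    have h6 : q8Sigma ^ j = 1 := by
      ext y
      apply hθinj
      rw [intertwine_zpow θ q8Sigma g hθσ j y, h4']
      simp
    have h7 : q8C ^ j = 1 := by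
      have o3 : orderOf q8Sigma = 3 := orderOf_eq_prime q8Sigma_cube q8Sigma_ne_one
      have d : (orderOf q8Sigma : ℤ) ∣ j := orderOf_dvd_iff_zpow_eq_one.mpr h6
      rw [o3] at d
      obtain ⟨k, hk⟩ := d
      rw [hk, zpow_mul, zpow_natCast, q8C_cube, one_zpow]
    rw [h5, map_one, h7, one_mul]
  have hFs : Function.Surjective F := by
    rw [← MonoidHom.range_eq_top]
    have hle : H6.q8Hom.range ≤ F.range := by
      rintro _ ⟨x, rfl⟩
      refine ⟨SemidirectProduct.inl x, ?_⟩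
      rw [hF]
      simp
    have hC : q8C ∈ F.range := by
      refine ⟨SemidirectProduct.inr (Multiplicative.ofAdd 1), ?_⟩
      rw [hF]
      simp
    have hidx := Subgroup.relIndex_mul_index hle
    rw [H6.q8Hom_range_index] at hidx
    have h3 : F.range.index ∣ 3 := Dvd.intro_left _ hidx
    rcases (Nat.dvd_prime Nat.prime_three).mp h3 with h | h
    · exact Subgroup.index_eq_one.mp h
    · exfalso
      rw [h] at hidx
      have h1 : H6.q8Hom.range.relIndex F.range = 1 := by omega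
      rw [Subgroup.relIndex_eq_one] at h1
      exact q8C_not_mem (h1 hC)
  exact section_of_homs π F hFs hker

end Cfsg.Agent.H39
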