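import Mathlib
import Cfsg.Agent.H39.Q8Sec
import Cfsg.Agent.H39.Basic

/-!
# helper39: the subgroups of order four of a quaternion group of order 8 generated by `a`, `b`
with an element `g` permuting them cyclically
-/

set_option autoImplicit false

namespace Cfsg.Agent.H39

open QuaternionGroup

variable {G : Type*} [Group G]

theorem q8_rel {a b : G} (ha4 : a ^ 4 = 1) (hb : b ^ 2 = a ^ 2) (hab2 : (a * b) ^ 2 = a ^ 2) :
    a * b = b * a⁻¹ := by
  have h4 : a⁻¹ = a ^ 3 := by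
    apply inv_eq_of_mul_eq_one_right
    rw [← pow_succ']; exact ha4
  have h1 : a * (b * a * b) = a * a := by
    rw [← sq a, ← hab2, sq]; simp only [mul_assoc]
  have h2 : b * a * b = a := mul_left_cancel h1
  have h3 : b⁻¹ = b * a ^ 2 := by
    apply inv_eq_of_mul_eq_one_right
    rw [← mul_assoc, ← sq, hb, ← pow_add]; exact ha4
  calc a * b = b⁻¹ * (b * a * b) := by group
    _ = b⁻¹ * a := by rw [h2]
    _ = b * a ^ 2 * a := by rw [h3]
    _ = b * a ^ 3 := by rw [mul_assoc, ← pow_succ]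
    _ = b * a⁻¹ := by rw [h4]

theorem q8Lift_range_le {a b : G} (ha4 : a ^ 4 = 1) (hb : b ^ 2 = a ^ 2) (hab : a * b = b * a⁻¹)
    {S : Subgroup G} (haS : a ∈ S) (hbS : b ∈ S) : (q8Lift a b ha4 hb hab).range ≤ S := by
  rintro _ ⟨q, rfl⟩
  rcases q with i | i
  · exact S.pow_mem haS _
  · exact S.mul_mem hbS (S.pow_mem haS _)

theorem q8Lift_card_range [Finite G] {a b : G} (ha4 : a ^ 4 = 1) (hb : b ^ 2 = a ^ 2)
    (hab : a * b = b * a⁻¹) (ha2 : a ^ 2 ≠ 1) : Nat.card (q8Lift a b ha4 hb hab).range = 8 := by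
  rw [← Nat.card_congr (MonoidHom.ofInjective (q8Lift_injective a b ha4 hb hab ha2)).toEquiv,
    Nat.card_eq_fintype_card, QuaternionGroup.card]

theorem q8_order_four : ∀ q : QuaternionGroup 2, q ^ 2 = a 2 →
    (q = a 1 ∨ q = (a 1)⁻¹) ∨ (q = xa 0 ∨ q = (xa 0)⁻¹) ∨ (q = xa 3 ∨ q = (xa 3)⁻¹) := by
  decide

/-- every subgroup of order four of the quaternion group `S = ⟨a, b⟩` is a conjugate of `⟨a⟩`
under a power of `g` -/
theorem q8_sub_four [Finite G] {S : Subgroup G} (hS : Nat.card S = 8) {a b g : G}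
    (haS : a ∈ S) (hbS : b ∈ S) (ha4 : a ^ 4 = 1) (ha2 : a ^ 2 ≠ 1) (hb : b ^ 2 = a ^ 2)
    (hab2 : (a * b) ^ 2 = a ^ 2) (hga : g * a * g⁻¹ = b) (hgb : g * b * g⁻¹ = a * b)
    {A : Subgroup G} (hA : A ≤ S) (hA4 : Nat.card A = 4) :
    ∃ k : ℕ, A = (Subgroup.zpowers a).map (MulAut.conj (g ^ k)).toMonoidHom := by
  have hab := q8_rel ha4 hb hab2
  obtain ⟨θ, hθdef⟩ : ∃ θ : QuaternionGroup 2 →* G, θ = q8Lift a b ha4 hb hab := ⟨_, rfl⟩
  have hrange : θ.range = S := by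
    apply Subgroup.eq_of_le_of_card_ge
    · rw [hθdef]; exact q8Lift_range_le ha4 hb hab haS hbS
    · rw [hS, hθdef, q8Lift_card_range ha4 hb hab ha2]
  have hmap : ∀ (k : ℕ) (y : G), g ^ k * a * (g ^ k)⁻¹ = y →
      (Subgroup.zpowers a).map (MulAut.conj (g ^ k)).toMonoidHom = Subgroup.zpowers y := by
    intro k y hy
    rw [MonoidHom.map_zpowers]
    congr 1
  -- an element of `A` outside `{1, a ^ 2}`
  obtain ⟨x, hxA, hx1, hx2⟩ : ∃ x ∈ A, x ≠ 1 ∧ x ≠ a ^ 2 := by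
    by_contra hcon
    push Not at hcon
    have hle : A ≤ Subgroup.zpowers (a ^ 2) := by
      intro x hx
      by_cases h1 : x = 1
      · rw [h1]; exact Subgroup.one_mem _
      · rw [hcon x hx h1]; exact Subgroup.mem_zpowers _
    have h1 := Subgroup.card_le_of_le hle
    rw [hA4, Nat.card_zpowers] at h1
    have h2 : orderOf (a ^ 2) ≤ 2 :=
      orderOf_le_of_pow_eq_one (by norm_num) (by rw [← pow_mul]; exact ha4)
    omega
  obtain ⟨q, hq⟩ : x ∈ θ.range := hrange ▸ hA hxA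
  have hq2 : q ^ 2 = QuaternionGroup.a 2 := by
    rcases q8_cases q with h | h | h
    · exfalso; apply hx1; rw [← hq, h, map_one]
    · exfalso; apply hx2; rw [← hq, h, hθdef]; rfl
    · exact h
  have hθ2 : θ (QuaternionGroup.a 2) = a ^ 2 := by rw [hθdef]; rfl
  have hx_sq : x ^ 2 = a ^ 2 := by rw [← hq, ← map_pow, hq2, hθ2]
  have hox : orderOf x = 2 ^ (1 + 1) := by
    apply orderOf_eq_prime_pow
    · rw [pow_one, hx_sq]; exact ha2
    · rw [show 2 ^ (1 + 1) = 2 * 2 from rfl, pow_mul, hx_sq, ← pow_mul]; exact ha4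
  have hAx : Subgroup.zpowers x = A := by
    apply Subgroup.eq_of_le_of_card_ge
    · rw [Subgroup.zpowers_le]; exact hxA
    · rw [Nat.card_zpowers, hox, hA4]; norm_num
  have hθa : θ (QuaternionGroup.a 1) = a := by rw [hθdef]; exact q8Lift_a_one a b ha4 hb hab
  have hθb : θ (xa 0) = b := by
    rw [hθdef, q8Lift_xa]
    have e3 : (0 : ZMod (2 * 2)).val = 0 := rfl
    rw [e3, pow_zero, mul_one]
  have hθc : θ (xa 3) = a * b := by
    have : (xa 3 : QuaternionGroup 2) = QuaternionGroup.a 1 * xa 0 := by decide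
    rw [this, map_mul, hθa, hθb]
  rw [← hAx, ← hq]
  rcases q8_order_four q hq2 with (h | h) | (h | h) | (h | h)
  · refine ⟨0, ?_⟩
    rw [h, hθa, hmap 0 a (by simp)]
  · refine ⟨0, ?_⟩
    rw [h, map_inv, hθa, Subgroup.zpowers_inv, hmap 0 a (by simp)]
  · refine ⟨1, ?_⟩
    rw [h, hθb, hmap 1 b (by rw [pow_one]; exact hga)]
  · refine ⟨1, ?_⟩
    rw [h, map_inv, hθb, Subgroup.zpowers_inv, hmap 1 b (by rw [pow_one]; exact hga)]
  · refine ⟨2, ?_⟩
    have h2 : g ^ 2 * a * (g ^ 2)⁻¹ = a * b := by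
      rw [← hgb, ← hga, pow_two]; group
    rw [h, hθc, hmap 2 (a * b) h2]
  · refine ⟨2, ?_⟩
    have h2 : g ^ 2 * a * (g ^ 2)⁻¹ = a * b := by
      rw [← hgb, ← hga, pow_two]; group
    rw [h, map_inv, hθc, Subgroup.zpowers_inv, hmap 2 (a * b) h2]

end Cfsg.Agent.H39
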