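import Mathlib
import Cfsg.Agent.H39.Quat

/-!
# helper39: an odd-order element acting nontrivially on a subgroup of a generalized quaternion
group produces a `Q₈` on which it acts as an automorphism of order three
-/

set_option autoImplicit false

namespace Cfsg.Agent.H39

local notation "N(" Q ")" => Subgroup.normalizer (SetLike.coe (Q : Subgroup _))

variable {G : Type*} [Group G]

theorem conj_fixed_of_conj {g u : G} (h : g * (g * u * g⁻¹) * g⁻¹ = g * u * g⁻¹) :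
    g * u * g⁻¹ = u := by
  have h3 : g⁻¹ * (g * (g * u * g⁻¹) * g⁻¹) * g = g⁻¹ * (g * u * g⁻¹) * g := by rw [h]
  calc g * u * g⁻¹ = g⁻¹ * (g * (g * u * g⁻¹) * g⁻¹) * g := by group
    _ = g⁻¹ * (g * u * g⁻¹) * g := h3
    _ = u := by group

theorem anti_of_sq {z u v : G} (hz : z ^ 2 = 1) (hu2 : u ^ 2 = z) (hv2 : v ^ 2 = z)
    (huv : (u * v) ^ 2 = z) : u * v * u⁻¹ = v⁻¹ := by
  have h1 : u * v * u * v = v * v := by
    rw [← sq v, hv2, ← huv, sq]; group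
  have h2 : u * v * u = v := mul_right_cancel h1
  have h3 : u⁻¹ = u * z := by
    apply inv_eq_of_mul_eq_one_right
    rw [← mul_assoc, ← sq, hu2, ← sq, hz]
  have h4 : v⁻¹ = v * z := by
    apply inv_eq_of_mul_eq_one_right
    rw [← mul_assoc, ← sq, hv2, ← sq, hz]
  calc u * v * u⁻¹ = u * v * (u * z) := by rw [h3]
    _ = (u * v * u) * z := by group
    _ = v * z := by rw [h2]
    _ = v⁻¹ := h4.symm

theorem quat_reduction_mem [Finite G] {T : Subgroup G} {c z : G} (hT : QIface T c z)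
    (hT2 : ∀ t ∈ T, ∃ k : ℕ, t ^ 2 ^ k = 1) {Q : Subgroup G} (hQ : Q ≤ T) {g : G}
    (hgN : g ∈ N(Q)) (hgo : (orderOf g).Coprime 2)
    (hgC : g ∉ Subgroup.centralizer (Q : Set G)) :
    ∃ a b : G, a ∈ Q ∧ b ∈ Q ∧ a ^ 4 = 1 ∧ a ^ 2 ≠ 1 ∧ b ^ 2 = a ^ 2 ∧ (a * b) ^ 2 = a ^ 2 ∧
      g * a * g⁻¹ = b ∧ g * b * g⁻¹ = a * b := by
  classical
  have hconj : ∀ x ∈ Q, g * x * g⁻¹ ∈ Q := fun x hx => (Subgroup.mem_normalizer_iff.mp hgN x).mp hx
  have hcent : (∀ u ∈ Q, g * u * g⁻¹ = u) → g ∈ Subgroup.centralizer (Q : Set G) := by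
    intro h
    rw [Subgroup.mem_centralizer_iff]
    intro u hu
    have key := h u hu
    calc u * g = (g * u * g⁻¹) * g := by rw [key]
      _ = g * u := by group
  -- step 1: exponent 4
  have hexp : ∀ w ∈ Q, w ^ 4 = 1 := by
    by_contra hcon
    push Not at hcon
    obtain ⟨w, hwQ, hw4⟩ := hcon
    apply hgC
    have hwc : w ∈ Subgroup.zpowers c := by
      by_contra hwc
      have := hT.sq w (hQ hwQ) hwc
      apply hw4
      rw [show 4 = 2 * 2 from rfl, pow_mul, this, hT.z_sq]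
    obtain ⟨x, hx⟩ : ∃ x : G, Subgroup.zpowers x = Q ⊓ Subgroup.zpowers c := by
      have hle : Q ⊓ Subgroup.zpowers c ≤ Subgroup.zpowers c := inf_le_right
      have : IsCyclic ↥(Q ⊓ Subgroup.zpowers c) :=
        isCyclic_of_injective (Subgroup.inclusion hle) (Subgroup.inclusion_injective hle)
      exact (Subgroup.isCyclic_iff_exists_zpowers_eq_top _).mp this
    have hmemA : ∀ u, u ∈ Subgroup.zpowers x ↔ u ∈ Q ∧ u ∈ Subgroup.zpowers c := by
      intro u; rw [hx, Subgroup.mem_inf]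
    have hxA : x ∈ Q ∧ x ∈ Subgroup.zpowers c := (hmemA x).mp (Subgroup.mem_zpowers x)
    have hxQ : x ∈ Q := hxA.1
    have hx4 : x ^ 4 ≠ 1 := by
      intro h
      obtain ⟨k, rfl⟩ := Subgroup.mem_zpowers_iff.mp ((hmemA w).mpr ⟨hwQ, hwc⟩)
      apply hw4
      rw [← zpow_natCast, ← zpow_mul, mul_comm, zpow_mul, zpow_natCast, h, one_zpow]
    have hy : g * x * g⁻¹ ∈ Subgroup.zpowers x := by
      rw [hmemA]
      refine ⟨hconj x hxQ, ?_⟩
      by_contra hyc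
      have := hT.sq _ (hQ (hconj x hxQ)) hyc
      apply hx4
      have h2 : (g * x * g⁻¹) ^ 4 = 1 := by
        rw [show 4 = 2 * 2 from rfl, pow_mul, this, hT.z_sq]
      rw [conj_pow] at h2
      have h3 : x ^ 4 = g⁻¹ * (g * x ^ 4 * g⁻¹) * g := by group
      rw [h3, h2]; group
    have hgx : g * x * g⁻¹ = x := conj_eq_of_mem_zpowers (hT2 x (hQ hxQ)) hgo hy
    have hgA : ∀ u, u ∈ Q → u ∈ Subgroup.zpowers c → g * u * g⁻¹ = u := by
      intro u huQ huc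
      obtain ⟨k, rfl⟩ := Subgroup.mem_zpowers_iff.mp ((hmemA u).mpr ⟨huQ, huc⟩)
      rw [← conj_zpow, hgx]
    apply hcent
    intro u hu
    by_cases huc : u ∈ Subgroup.zpowers c
    · exact hgA u hu huc
    · have hvQ : g * u * g⁻¹ ∈ Q := hconj u hu
      have hvc : g * u * g⁻¹ ∉ Subgroup.zpowers c := by
        intro hvc
        have h1 := hgA _ hvQ hvc
        have h2 := conj_fixed_of_conj h1
        rw [h2] at hvc
        exact huc hvc
      have hdc : u⁻¹ * (g * u * g⁻¹) ∈ Subgroup.zpowers c :=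
        hT.prod u (hQ hu) _ (hQ hvQ) huc hvc
      have hdQ : u⁻¹ * (g * u * g⁻¹) ∈ Q := Q.mul_mem (Q.inv_mem hu) hvQ
      have hgd := hgA _ hdQ hdc
      have hpow : ∀ j : ℕ, g ^ j * u * (g ^ j)⁻¹ = u * (u⁻¹ * (g * u * g⁻¹)) ^ j := by
        intro j
        induction j with
        | zero => simp
        | succ j ih =>
          have h1 : g ^ (j + 1) * u * (g ^ (j + 1))⁻¹ = g * (g ^ j * u * (g ^ j)⁻¹) * g⁻¹ := by
            rw [pow_succ']; group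
          have h2 : g * (u * (u⁻¹ * (g * u * g⁻¹)) ^ j) * g⁻¹
              = (g * u * g⁻¹) * (g * (u⁻¹ * (g * u * g⁻¹)) * g⁻¹) ^ j := by
            rw [conj_pow]; group
          rw [h1, ih, h2, hgd, pow_succ', ← mul_assoc u, mul_inv_cancel_left]
      have hdr : (u⁻¹ * (g * u * g⁻¹)) ^ orderOf g = 1 := by
        have := hpow (orderOf g)
        rw [pow_orderOf_eq_one] at this
        simpa using this.symm
      obtain ⟨k, hk⟩ := hT2 _ (hQ hdQ)
      have hd1 : u⁻¹ * (g * u * g⁻¹) = 1 := by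
        have h1 : orderOf (u⁻¹ * (g * u * g⁻¹)) ∣ orderOf g := orderOf_dvd_of_pow_eq_one hdr
        have h2 : orderOf (u⁻¹ * (g * u * g⁻¹)) ∣ 2 ^ k := orderOf_dvd_of_pow_eq_one hk
        have := Nat.Coprime.eq_one_of_dvd (Nat.Coprime.coprime_dvd_left h1 (hgo.pow_right k)) h2
        exact orderOf_eq_one_iff.mp this
      exact (inv_mul_eq_one.mp hd1).symm
  -- step 2: a moved element
  obtain ⟨x, hxQ, hxg⟩ : ∃ x ∈ Q, g * x * g⁻¹ ≠ x := by
    by_contra hcon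
    push Not at hcon
    exact hgC (hcent hcon)
  have hinvQ : ∀ t ∈ Q, t ^ 2 = 1 → t ≠ 1 → t = z :=
    fun t ht h2 h1 => (hT.invol t (hQ ht) h2).resolve_left h1
  have hfix : ∀ t ∈ Q, t ^ 2 = 1 → g * t * g⁻¹ = t := by
    intro t ht h2
    by_cases h1 : t = 1
    · subst h1; group
    · have e1 := hinvQ t ht h2 h1
      have e2 := hinvQ (g * t * g⁻¹) (hconj t ht) (by rw [conj_pow, h2]; group) (by
        intro h; apply h1
        have h3 : t = g⁻¹ * (g * t * g⁻¹) * g := by group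
        rw [h3, h]; group)
      rw [e2, e1]
  have hsq : ∀ t ∈ Q, t ^ 2 ≠ 1 → t ^ 2 = z := by
    intro t ht h
    exact hinvQ (t ^ 2) (Q.pow_mem ht 2) (by rw [← pow_mul]; exact hexp t ht) h
  have hx2 : x ^ 2 = z := hsq x hxQ (fun h => hxg (hfix x hxQ h))
  have hpair : ∀ u ∈ Q, ∀ v ∈ Q, u ^ 2 = z → v ^ 2 = z → v ≠ u → v ≠ u⁻¹ → (u * v) ^ 2 = z := by
    intro u hu v hv hu2 hv2 h1 h2
    apply hsq (u * v) (Q.mul_mem hu hv)
    intro h
    rcases hT.invol (u * v) (hQ (Q.mul_mem hu hv)) h with h3 | h3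
    · exact h2 (eq_inv_of_mul_eq_one_right h3)
    · apply h1
      rw [← hu2, sq] at h3
      exact mul_left_cancel h3
  have hzQ : z ∈ Q := hx2 ▸ Q.pow_mem hxQ 2
  have hgz : g * z * g⁻¹ = z := hfix z hzQ hT.z_sq
  have hyQ : g * x * g⁻¹ ∈ Q := hconj x hxQ
  have hy2 : (g * x * g⁻¹) ^ 2 = z := by rw [conj_pow, hx2, hgz]
  have hcomm_sq : ∀ t : G, Commute (g ^ 2) t → Commute g t := by
    intro t ht
    obtain ⟨k, hk⟩ : ∃ k, orderOf g + 1 = 2 * k := by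
      have h1 : orderOf g % 2 = 1 := by
        rcases Nat.mod_two_eq_zero_or_one (orderOf g) with h | h
        · exfalso
          have h2 : 2 ∣ orderOf g := Nat.dvd_of_mod_eq_zero h
          have := Nat.Coprime.eq_one_of_dvd hgo.symm h2
          omega
        · exact h
      exact ⟨(orderOf g + 1) / 2, by omega⟩
    have h3 : g = (g ^ 2) ^ k := by
      rw [← pow_mul, ← hk, pow_succ, pow_orderOf_eq_one, one_mul]
    rw [h3]
    exact ht.pow_left k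
  have hyx : g * x * g⁻¹ ∉ Subgroup.zpowers x :=
    fun h => hxg (conj_eq_of_mem_zpowers (hT2 x (hQ hxQ)) hgo h)
  have hy_ne : g * x * g⁻¹ ≠ x := hxg
  have hy_ne' : g * x * g⁻¹ ≠ x⁻¹ := fun h => hyx (h ▸ Subgroup.inv_mem _ (Subgroup.mem_zpowers x))
  have hxy : (x * (g * x * g⁻¹)) ^ 2 = z := hpair x hxQ _ hyQ hx2 hy2 hy_ne hy_ne'
  have hwQ : g * (g * x * g⁻¹) * g⁻¹ ∈ Q := hconj _ hyQ
  have hw2 : (g * (g * x * g⁻¹) * g⁻¹) ^ 2 = z := by rw [conj_pow, hy2, hgz]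
  have hgy : g * (g * x * g⁻¹) * g⁻¹ ≠ g * x * g⁻¹ := fun h => hxg (conj_fixed_of_conj h)
  have hwy : g * (g * x * g⁻¹) * g⁻¹ ∉ Subgroup.zpowers (g * x * g⁻¹) :=
    fun h => hgy (conj_eq_of_mem_zpowers (hT2 _ (hQ hyQ)) hgo h)
  have hwx : g * (g * x * g⁻¹) * g⁻¹ ∉ Subgroup.zpowers x := by
    intro h
    have h1 : g ^ 2 * x * (g ^ 2)⁻¹ = g * (g * x * g⁻¹) * g⁻¹ := by rw [pow_two]; group
    have hgo2 : (orderOf (g ^ 2)).Coprime 2 :=
      Nat.Coprime.coprime_dvd_left (orderOf_pow_dvd 2) hgo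
    have h2 := conj_eq_of_mem_zpowers (hT2 x (hQ hxQ)) hgo2 (h1 ▸ h)
    have h3 : Commute (g ^ 2) x := by
      unfold Commute SemiconjBy
      calc g ^ 2 * x = (g ^ 2 * x * (g ^ 2)⁻¹) * g ^ 2 := by group
        _ = x * g ^ 2 := by rw [h2]
    have h4 := hcomm_sq x h3
    apply hxg
    rw [h4.eq, mul_inv_cancel_right]
  -- abbreviations
  obtain ⟨y, hy⟩ : ∃ y, y = g * x * g⁻¹ := ⟨_, rfl⟩
  obtain ⟨w, hw⟩ : ∃ w, w = g * y * g⁻¹ := ⟨_, rfl⟩
  rw [← hy] at hyQ hy2 hyx hy_ne hy_ne' hxy hwQ hw2 hgy hwy hwx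
  rw [← hw] at hwQ hw2 hgy hwy hwx
  have hxw : (x * w) ^ 2 = z := hpair x hxQ w hwQ hx2 hw2
    (fun h => hwx (h ▸ Subgroup.mem_zpowers x))
    (fun h => hwx (h ▸ Subgroup.inv_mem _ (Subgroup.mem_zpowers x)))
  have hyw : (y * w) ^ 2 = z := hpair y hyQ w hwQ hy2 hw2
    (fun h => hwy (h ▸ Subgroup.mem_zpowers y))
    (fun h => hwy (h ▸ Subgroup.inv_mem _ (Subgroup.mem_zpowers y)))
  have a1 : x * w * x⁻¹ = w⁻¹ := anti_of_sq hT.z_sq hx2 hw2 hxw
  have a2 : y * w * y⁻¹ = w⁻¹ := anti_of_sq hT.z_sq hy2 hw2 hyw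
  have hcomm : Commute w (x * y) := by
    have h1 : (x * y) * w * (x * y)⁻¹ = w := by
      calc (x * y) * w * (x * y)⁻¹ = x * (y * w * y⁻¹) * x⁻¹ := by group
        _ = x * w⁻¹ * x⁻¹ := by rw [a2]
        _ = (x * w * x⁻¹)⁻¹ := by group
        _ = w := by rw [a1, inv_inv]
    unfold Commute SemiconjBy
    calc w * (x * y) = ((x * y) * w * (x * y)⁻¹) * (x * y) := by rw [h1]
      _ = x * y * w := by group
  have hprod : (w * (x * y)) ^ 2 = 1 := by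
    rw [hcomm.mul_pow, hw2, hxy, ← sq, hT.z_sq]
  have hx4 : x ^ 4 = 1 := hexp x hxQ
  have hz1 : z ≠ 1 := hT.z_ne
  rcases hT.invol _ (hQ (Q.mul_mem hwQ (Q.mul_mem hxQ hyQ))) hprod with h | h
  · -- w = (x y)⁻¹ : use inverses
    refine ⟨x⁻¹, y⁻¹, Q.inv_mem hxQ, Q.inv_mem hyQ, ?_, ?_, ?_, ?_, ?_, ?_⟩
    · rw [inv_pow, hx4, inv_one]
    · rw [inv_pow, hx2]
      intro h'
      exact hz1 (inv_eq_one.mp h')
    · rw [inv_pow, inv_pow, hx2, hy2]
    · have h1 : (y * x) ^ 2 = z := hpair y hyQ x hxQ hy2 hx2 (fun h' => hy_ne h'.symm)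
        (fun h' => hy_ne' (by rw [h', inv_inv]))
      rw [← mul_inv_rev, inv_pow, h1, inv_pow, hx2]
    · rw [hy]; group
    · have h1 : g * y⁻¹ * g⁻¹ = w⁻¹ := by rw [hw]; group
      have h2 : w⁻¹ = x * y := inv_eq_of_mul_eq_one_right h
      have h3 : x * y * (y * x) = 1 := by
        calc x * y * (y * x) = x * y ^ 2 * x := by rw [pow_two]; group
          _ = x * x ^ 2 * x := by rw [hy2, hx2]
          _ = x ^ 4 := by rw [show (4 : ℕ) = 1 + 2 + 1 from rfl, pow_add, pow_add, pow_one]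
          _ = 1 := hx4
      have h4 : x * y = (y * x)⁻¹ := eq_inv_of_mul_eq_one_left h3
      rw [h1, h2, h4, mul_inv_rev]
  · -- w = x y
    have hwxy : w = x * y := by
      rw [← hxy, sq] at h
      exact mul_right_cancel h
    refine ⟨x, y, hxQ, hyQ, hx4, ?_, ?_, ?_, ?_, ?_⟩
    · rw [hx2]; exact hz1
    · rw [hy2, hx2]
    · rw [hxy, hx2]
    · exact hy.symm
    · rw [← hw, hwxy]

theorem quat_reduction [Finite G] {T : Subgroup G} {c z : G} (hT : QIface T c z)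
    (hT2 : ∀ t ∈ T, ∃ k : ℕ, t ^ 2 ^ k = 1) {Q : Subgroup G} (hQ : Q ≤ T) {g : G}
    (hgN : g ∈ N(Q)) (hgo : (orderOf g).Coprime 2)
    (hgC : g ∉ Subgroup.centralizer (Q : Set G)) :
    ∃ a b : G, a ^ 4 = 1 ∧ a ^ 2 ≠ 1 ∧ b ^ 2 = a ^ 2 ∧ (a * b) ^ 2 = a ^ 2 ∧
      g * a * g⁻¹ = b ∧ g * b * g⁻¹ = a * b := by
  obtain ⟨a, b, -, -, h⟩ := quat_reduction_mem hT hT2 hQ hgN hgo hgC
  exact ⟨a, b, h⟩

end Cfsg.Agent.H39
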