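import Cfsg.Agent.H39.C2Inv
import Cfsg.Agent.H37.AG
import Cfsg.Agent.H54.SPE2
import Cfsg.Agent.H28.FStar3
import Cfsg.Agent.S0215

/-!
# A maximal `2`-local with noncyclic `Z(O_2)` in simple groups of characteristic `2` type (helper39)

If every maximal `2`-local `M` had `Z(O_2(M))` cyclic, then for every member `D` of the
Alperin–Goldschmidt conjugation family of a Sylow `2`-subgroup `S` the normalizer `N_G(D)` would
centralize the involution `z` of `Z(S)`; hence `z` would be isolated, against Glauberman's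
`Z*`-theorem.
-/

set_option autoImplicit false

namespace Cfsg.Agent.H39

open Cfsg

universe u

variable {G : Type u} [Group G]

/-- In a finite cyclic group there is at most one involution. -/
theorem cyclic_invol_unique {C : Type*} [Group C] [Finite C] [IsCyclic C] {a b : C}
    (ha : orderOf a = 2) (hb : orderOf b = 2) : a = b := by
  classical
  haveI := Fintype.ofFinite C
  have hd : 2 ∣ Fintype.card C := by rw [← ha]; exact orderOf_dvd_card
  have h1 := IsCyclic.card_orderOf_eq_totient (α := C) hd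
  rw [Nat.totient_two] at h1
  have ha' : a ∈ Finset.univ.filter (fun x : C => orderOf x = 2) := by simp [ha]
  have hb' : b ∈ Finset.univ.filter (fun x : C => orderOf x = 2) := by simp [hb]
  exact Finset.card_le_one.mp h1.le a ha' b hb'

/-- Two involutions of `G` lying in the centre of `O_2(M)` coincide when that centre is cyclic. -/
theorem center_invol_unique [Finite G] (M : Subgroup G)
    [IsCyclic ↥(Subgroup.center ↥(pCore 2 ↥M))] {x y : G}
    (hx : x ∈ pCoreOf 2 M) (hy : y ∈ pCoreOf 2 M)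
    (hxc : ∀ q ∈ pCoreOf 2 M, q * x = x * q) (hyc : ∀ q ∈ pCoreOf 2 M, q * y = y * q)
    (hxo : orderOf x = 2) (hyo : orderOf y = 2) : x = y := by
  obtain ⟨hxM, hxQ⟩ := Cfsg.Agent.H54.mem_pCoreOf_iff.mp hx
  obtain ⟨hyM, hyQ⟩ := Cfsg.Agent.H54.mem_pCoreOf_iff.mp hy
  have hxz : (⟨⟨x, hxM⟩, hxQ⟩ : ↥(pCore 2 ↥M)) ∈ Subgroup.center ↥(pCore 2 ↥M) := by
    rw [Subgroup.mem_center_iff]
    intro g
    apply Subtype.ext
    apply Subtype.ext
    exact hxc ((g : ↥M) : G) ⟨(g : ↥M), g.2, rfl⟩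
  have hyz : (⟨⟨y, hyM⟩, hyQ⟩ : ↥(pCore 2 ↥M)) ∈ Subgroup.center ↥(pCore 2 ↥M) := by
    rw [Subgroup.mem_center_iff]
    intro g
    apply Subtype.ext
    apply Subtype.ext
    exact hyc ((g : ↥M) : G) ⟨(g : ↥M), g.2, rfl⟩
  have h1 : orderOf (⟨⟨⟨x, hxM⟩, hxQ⟩, hxz⟩ : Subgroup.center ↥(pCore 2 ↥M)) = 2 := by
    rw [Subgroup.orderOf_mk, Subgroup.orderOf_mk, Subgroup.orderOf_mk]; exact hxo
  have h2 : orderOf (⟨⟨⟨y, hyM⟩, hyQ⟩, hyz⟩ : Subgroup.center ↥(pCore 2 ↥M)) = 2 := by
    rw [Subgroup.orderOf_mk, Subgroup.orderOf_mk, Subgroup.orderOf_mk]; exact hyo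
  have h3 := cyclic_invol_unique h1 h2
  exact congrArg (fun w : Subgroup.center ↥(pCore 2 ↥M) => (((w : ↥(pCore 2 ↥M)) : ↥M) : G)) h3

/-- A finite group of characteristic `p` has trivial `p'`-core. -/
theorem pPrimeCore_eq_bot_of_charP {X : Type u} [Group X] [Finite X] (p : ℕ) [Fact p.Prime]
    (h : Subgroup.centralizer (pCore p X : Set X) ≤ pCore p X) : pPrimeCore p X = ⊥ := by
  have hd : Disjoint (pPrimeCore p X) (pCore p X) := by
    apply Subgroup.disjoint_of_coprime_natCard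
    obtain ⟨k, hk⟩ := IsPGroup.iff_card.1 (H60.isPGroup_pCore (G := X) p)
    rw [hk]; exact Nat.Coprime.pow_right k (H60.card_pPrimeCore_coprime p)
  have h1 : pPrimeCore p X ≤ Subgroup.centralizer (pCore p X : Set X) := by
    intro x hx
    rw [Subgroup.mem_centralizer_iff]
    intro y hy
    exact (Subgroup.commute_of_normal_of_disjoint _ _ inferInstance inferInstance hd
      x y hx hy).eq.symm
  have h3 : pPrimeCore p X ≤ pPrimeCore p X ⊓ pCore p X := le_inf le_rfl (h1.trans h)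
  rw [hd.eq_bot] at h3
  exact le_bot_iff.1 h3

section main

variable [Finite G]

/-- If all `2`-locals have characteristic `2` and every maximal `2`-local has cyclic
`Z(O_2)`, the normalizer of a member `D ∋ z` of the Alperin–Goldschmidt family centralizes the
central involution `z` of `S`. -/
theorem good_normalizer_le_centralizer (S : Sylow 2 G)
    (hchar : ∀ T : Subgroup G, IsPGroup 2 ↥T → T ≠ ⊥ →
      Cfsg.Agent.H54.CharP 2 ↥(Subgroup.normalizer (T : Set G)))
    (hCH : ∀ M : Subgroup G, IsMaximalTwoLocal M →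
      IsCyclic ↥(Subgroup.center ↥(pCore 2 ↥M)))
    {z : G} (hz2 : orderOf z = 2) (hzc : ∀ s ∈ (S : Subgroup G), s * z = z * s)
    {D : Subgroup G} (hD : Cfsg.Agent.H37.AG.Good S D) (hzD : z ∈ D) :
    Subgroup.normalizer (D : Set G) ≤ Subgroup.centralizer ({z} : Set G) := by
  classical
  haveI : Fact (Nat.Prime 2) := ⟨Nat.prime_two⟩
  obtain ⟨hDS, -, hprod, -⟩ := hD
  have hz1 : z ≠ 1 := by
    rintro rfl
    rw [orderOf_one] at hz2
    omega
  have hDp : IsPGroup 2 ↥D := S.isPGroup'.to_le hDS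
  have hD1 : D ≠ ⊥ := by
    intro h
    rw [h] at hzD
    exact hz1 (Subgroup.mem_bot.mp hzD)
  have hcharN := hchar D hDp hD1
  have h0N : pPrimeCore 2 ↥(Subgroup.normalizer (D : Set G)) = ⊥ :=
    pPrimeCore_eq_bot_of_charP 2 hcharN
  have hL : (pPrimePCore 2 ↥(Subgroup.normalizer (D : Set G))).map
      (Subgroup.normalizer (D : Set G)).subtype = D := by
    have h1 := hprod.2.2.2.2
    rw [h0N, Subgroup.map_bot, bot_sup_eq] at h1
    exact h1.symm
  have hO2 : pCoreOf 2 (Subgroup.normalizer (D : Set G)) ≤ D := by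
    have h1 : pCore 2 ↥(Subgroup.normalizer (D : Set G)) ≤
        pPrimePCore 2 ↥(Subgroup.normalizer (D : Set G)) :=
      Cfsg.Agent.H37.AG.le_pPrimePCore_of_normal (pCore_normal' 2) (H60.isPGroup_pCore 2)
    have h2 := Subgroup.map_mono (f := (Subgroup.normalizer (D : Set G)).subtype) h1
    rw [hL] at h2
    exact h2
  set N := Subgroup.normalizer (D : Set G) with hN
  have hNloc : IsTwoLocal N := ⟨D, hDp, hD1, rfl⟩
  obtain ⟨M, hNM, hM⟩ := (Set.toFinite {M : Subgroup G | IsTwoLocal M ∧ N ≤ M}).exists_le_maximal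
    (show N ∈ _ from ⟨hNloc, le_rfl⟩)
  have hmax : IsMaximalTwoLocal M :=
    ⟨hM.prop.1, fun N' hN' hMN' =>
      le_antisymm (hM.2 ⟨hN', hM.prop.2.trans hMN'⟩ hMN') hMN'⟩
  have hcharM : Cfsg.Agent.H54.CharP 2 ↥M := by
    obtain ⟨T, hT, hT1, hMT⟩ := hM.prop.1
    rw [hMT]
    exact hchar T hT hT1
  have hQp : IsPGroup 2 ↥(pCoreOf 2 M) := Cfsg.Agent.H54.isPGroup_pCoreOf M
  have hMQ : M ≤ Subgroup.normalizer ((pCoreOf 2 M : Subgroup G) : Set G) :=
    Cfsg.Agent.H54.le_normalizer_pCoreOf M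
  have hDN : D ≤ N := Subgroup.le_normalizer
  have hQN : pCoreOf 2 M ⊓ N ≤ D := by
    refine le_trans ?_ hO2
    apply Cfsg.Agent.H54.le_pCoreOf inf_le_right
    · exact Cfsg.Agent.H54.le_normalizer_inf' (hNM.trans hMQ) Subgroup.le_normalizer
    · exact hQp.to_le inf_le_left
  have hDQn : D ≤ Subgroup.normalizer ((pCoreOf 2 M : Subgroup G) : Set G) :=
    (hDN.trans hNM).trans hMQ
  have hQD : pCoreOf 2 M ≤ D := by
    by_contra hnot
    have hP : IsPGroup 2 ↥(D ⊔ pCoreOf 2 M) := IsPGroup.to_sup_of_normal_right' hDp hQp hDQn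
    have hlt : D < D ⊔ pCoreOf 2 M := by
      refine lt_of_le_of_ne le_sup_left (fun h => hnot ?_)
      have h1 : pCoreOf 2 M ≤ D ⊔ pCoreOf 2 M := le_sup_right
      rw [← h] at h1
      exact h1
    obtain ⟨y, hyP, hyD, hyN⟩ :=
      Cfsg.Agent.H54.exists_mem_normalizer_not_mem_of_lt (D ⊔ pCoreOf 2 M) D hP hlt
    obtain ⟨d, hd, q, hq, rfl⟩ := H28.mem_sup_of_le_normalizer hDQn hyP
    have hqN : q ∈ N := by
      have h1 : q = d⁻¹ * (d * q) := by group
      rw [h1]
      exact N.mul_mem (N.inv_mem (hDN hd)) hyN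
    exact hyD (D.mul_mem hd (hQN (Subgroup.mem_inf.mpr ⟨hq, hqN⟩)))
  have hzM : z ∈ M := hNM (hDN hzD)
  have hzcD : ∀ d ∈ D, z * d = d * z := fun d hd => (hzc d (hDS hd)).symm
  have hzQ : z ∈ pCoreOf 2 M := by
    apply (Cfsg.Agent.H54.charP_iff_internal M).mp hcharM z hzM
    intro q hq
    exact hzcD q (hQD hq)
  intro n hn
  have hnM : n ∈ M := hNM hn
  have hconjQ : n * z * n⁻¹ ∈ pCoreOf 2 M :=
    (Subgroup.mem_normalizer_iff.mp (hMQ hnM) z).mp hzQ
  haveI := hCH M hmax
  have hoz : orderOf (n * z * n⁻¹) = 2 := by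
    rw [← hz2, ← MulAut.conj_apply]
    exact MulEquiv.orderOf_eq _ _
  have hval : z = n * z * n⁻¹ := by
    apply center_invol_unique M hzQ hconjQ ?_ ?_ hz2 hoz
    · intro q hq
      exact (hzcD q (hQD hq)).symm
    · intro q hq
      have hq' : n⁻¹ * q * n ∈ pCoreOf 2 M := by
        have := (Subgroup.mem_normalizer_iff.mp (hMQ (M.inv_mem hnM)) q).mp hq
        simpa using this
      have hc := hzcD _ (hQD hq')
      calc q * (n * z * n⁻¹) = n * ((n⁻¹ * q * n) * z) * n⁻¹ := by group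
        _ = n * (z * (n⁻¹ * q * n)) * n⁻¹ := by rw [hc]
        _ = (n * z * n⁻¹) * q := by group
  rw [Subgroup.mem_centralizer_singleton_iff]
  calc n * z = (n * z * n⁻¹) * n := by group
    _ = z * n := by rw [← hval]

/-- The product of an Alperin–Goldschmidt chain carrying `{z}` centralizes `z`. -/
theorem achain_prod_mem (S : Sylow 2 G) {z : G}
    (hstep : ∀ D : Subgroup G, Cfsg.Agent.H37.AG.Good S D → z ∈ D →
      Subgroup.normalizer (D : Set G) ≤ Subgroup.centralizer ({z} : Set G)) :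
    ∀ l : List (Subgroup G × G), Cfsg.Agent.H37.AG.AChain S ({z} : Set G) l →
      Cfsg.Agent.H37.AG.aprod l ∈ Subgroup.centralizer ({z} : Set G)
  | [], _ => by
    rw [Cfsg.Agent.H37.AG.aprod_nil]
    exact Subgroup.one_mem _
  | s :: l, h => by
    obtain ⟨hgood, hx, hsub, hrest⟩ := h
    have hz : z ∈ s.1 := hsub (Set.mem_singleton z)
    have hxc : s.2 ∈ Subgroup.centralizer ({z} : Set G) := hstep s.1 hgood hz hx
    rw [Cfsg.Agent.H37.AG.cj_of_mem_centralizer hxc] at hrest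
    rw [Cfsg.Agent.H37.AG.aprod_cons]
    exact Subgroup.mul_mem _ hxc (achain_prod_mem S hstep l hrest)

/-- **S3244**: in a simple group of characteristic `2` type some maximal `2`-local `M` has
noncyclic `Z(O_2(M))`. -/
theorem exists_noncyclic_center [IsSimpleGroup G] (hG : ¬ IsMulCommutative G) (S : Sylow 2 G)
    (A : Subgroup G) (hA : IsSCN (S : Subgroup G) A) (hA3 : ¬ PRankLE 2 2 ↥A)
    (hinv : ∀ X : Subgroup G, Odd (Nat.card ↥X) →
      (S : Subgroup G) ≤ Subgroup.normalizer (X : Set G) → X = ⊥)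
    (hcon : ∀ T : Subgroup G, IsPGroup 2 ↥T → T ≠ ⊥ →
      IsPConstrained 2 ↥(Subgroup.normalizer (T : Set G))) :
    ∃ M : Subgroup G, IsMaximalTwoLocal M ∧ ¬ IsCyclic ↥(Subgroup.center ↥(pCore 2 ↥M)) := by
  classical
  haveI : Fact (Nat.Prime 2) := ⟨Nat.prime_two⟩
  by_contra hcon'
  push Not at hcon'
  have hchar := charP_two_local S A hA hA3 hinv hcon
  have hS1 : (S : Subgroup G) ≠ ⊥ := by
    obtain ⟨B, hBA, -, -, hBcard⟩ := (H28.not_pRankLE_subgroup_iff 2 2 A).1 hA3
    intro hS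
    have h1 : B ≤ (⊥ : Subgroup G) := hS ▸ (hBA.trans hA.1)
    have h2 := Subgroup.card_le_of_le h1
    rw [Subgroup.card_bot] at h2
    norm_num at hBcard
    omega
  obtain ⟨z, hzS, hz2, hzc⟩ := H28.exists_central_involution' (S : Subgroup G) S.isPGroup' hS1
  have hz1 : z ≠ 1 := by
    rintro rfl
    rw [orderOf_one] at hz2
    omega
  have hstep : ∀ D : Subgroup G, Cfsg.Agent.H37.AG.Good S D → z ∈ D →
      Subgroup.normalizer (D : Set G) ≤ Subgroup.centralizer ({z} : Set G) :=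
    fun D hD hzD => good_normalizer_le_centralizer S hchar hcon' hz2 hzc hD hzD
  have hiso : ∀ g : G, g * z * g⁻¹ ∈ S → g * z * g⁻¹ = z := by
    intro g hg
    have hA' : ({z} : Set G) ⊆ ((S : Subgroup G) : Set G) := by
      rintro _ rfl
      exact hzS
    have hAg : Cfsg.Agent.H40.Alp.cj g⁻¹ ({z} : Set G) ⊆ ((S : Subgroup G) : Set G) := by
      intro y hy
      rw [Cfsg.Agent.H40.Alp.mem_cj, Set.mem_singleton_iff] at hy
      have h1 : y = g * z * g⁻¹ := by
        calc y = g * (g⁻¹ * y * g⁻¹⁻¹) * g⁻¹ := by group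
          _ = g * z * g⁻¹ := by rw [hy]
      rw [h1]
      exact hg
    obtain ⟨l, c, hl, hc, hgl⟩ := Cfsg.Agent.H37.AG.rel_of_cj_subset S ({z} : Set G) g⁻¹ hA' hAg
    have h1 := achain_prod_mem S hstep l hl
    have h2 : g⁻¹ ∈ Subgroup.centralizer ({z} : Set G) := by
      rw [hgl]
      exact Subgroup.mul_mem _ hc h1
    have h3 : g ∈ Subgroup.centralizer ({z} : Set G) := by
      have := Subgroup.inv_mem _ h2
      rwa [inv_inv] at this
    rw [Subgroup.mem_centralizer_singleton_iff] at h3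
    calc g * z * g⁻¹ = (z * g) * g⁻¹ := by rw [h3]
      _ = z := by group
  obtain ⟨N, hNn, hNodd, hNc⟩ := Cfsg.Agent.S0215.result S z hz2 hzS hiso
  rcases hNn.eq_bot_or_eq_top with h | h
  · have hzcent : z ∈ Subgroup.center G := by
      rw [Subgroup.mem_center_iff]
      intro g
      have h1 := hNc g
      rw [h, Subgroup.mem_bot] at h1
      calc g * z = (z * g * z⁻¹ * g⁻¹)⁻¹ * (z * g) := by group
        _ = z * g := by rw [h1]; group
    have hcent : Subgroup.center G = ⊤ := by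
      rcases (inferInstance : (Subgroup.center G).Normal).eq_bot_or_eq_top with h' | h'
      · exfalso
        rw [h'] at hzcent
        exact hz1 (Subgroup.mem_bot.mp hzcent)
      · exact h'
    apply hG
    refine ⟨⟨fun a b => ?_⟩⟩
    have hb : b ∈ Subgroup.center G := by rw [hcent]; trivial
    exact Subgroup.mem_center_iff.mp hb a
  · rw [h, Subgroup.card_top] at hNodd
    have h2 : 2 ∣ Nat.card G := by
      rw [← hz2]
      exact orderOf_dvd_natCard z
    exact (Nat.not_even_iff_odd.mpr hNodd) (even_iff_two_dvd.mpr h2)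

end main

end Cfsg.Agent.H39
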