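import Mathlib
import Cfsg.Agent.H81.GL23Defs
import Cfsg.Agent.H81.GL23Eval
import Cfsg.Agent.H32.Virtual

/-!
# S0197-DATA (helper39, for helper81): the five generalized characters

`M = ![P₁ - K₁, P₂ - K₁, M₃, M₄, P₅ - K₁]` satisfies `Data t x s M`.
-/

set_option autoImplicit false

namespace Cfsg.Agent.H39.GL23

open Cfsg Cfsg.Agent.H81.GL23
open scoped ComplexConjugate

universe u

section
variable {G : Type u} [Group G]

theorem tab_sub {t x v : G} {F F' : G → ℂ} {a₁ a₂ a₃ a₄ a₅ b₁ b₂ b₃ b₄ b₅ : ℂ}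
    (h : Tab t x v F a₁ a₂ a₃ a₄ a₅) (h' : Tab t x v F' b₁ b₂ b₃ b₄ b₅) :
    Tab t x v (F - F') (a₁ - b₁) (a₂ - b₂) (a₃ - b₃) (a₄ - b₄) (a₅ - b₅) := by
  obtain ⟨h1, h2, h3, h4, h5, h0⟩ := h
  obtain ⟨k1, k2, k3, k4, k5, k0⟩ := h'
  refine ⟨fun g hg => ?_, fun g hg => ?_, fun g hg => ?_, fun g hg => ?_, fun g hg => ?_,
    fun g n1 n2 n3 n4 n5 => ?_⟩
  · rw [Pi.sub_apply, h1 g hg, k1 g hg]
  · rw [Pi.sub_apply, h2 g hg, k2 g hg]
  · rw [Pi.sub_apply, h3 g hg, k3 g hg]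
  · rw [Pi.sub_apply, h4 g hg, k4 g hg]
  · rw [Pi.sub_apply, h5 g hg, k5 g hg]
  · rw [Pi.sub_apply, h0 g n1 n2 n3 n4 n5, k0 g n1 n2 n3 n4 n5, sub_zero]

theorem tab_congr {t x v : G} {F : G → ℂ} {a₁ a₂ a₃ a₄ a₅ b₁ b₂ b₃ b₄ b₅ : ℂ}
    (h : Tab t x v F a₁ a₂ a₃ a₄ a₅) (e1 : a₁ = b₁) (e2 : a₂ = b₂) (e3 : a₃ = b₃)
    (e4 : a₄ = b₄) (e5 : a₅ = b₅) : Tab t x v F b₁ b₂ b₃ b₄ b₅ := by
  subst e1 e2 e3 e4 e5
  exact h

theorem tab_vals {t x v : G} {F : G → ℂ} {a₁ a₂ a₃ a₄ a₅ : ℂ}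
    (h : Tab t x v F a₁ a₂ a₃ a₄ a₅) :
    F t = a₁ ∧ F v = a₂ ∧ F (x ^ 2) = a₃ ∧ F x = a₄ ∧ F x⁻¹ = a₅ :=
  ⟨h.1 t (IsConj.refl t), h.2.1 v (IsConj.refl v), h.2.2.1 _ (IsConj.refl _),
    h.2.2.2.1 x (IsConj.refl x), h.2.2.2.2.1 _ (IsConj.refl _)⟩

theorem tab_one {t x v : G} (hc : Cfg t x v) {F : G → ℂ} {a₁ a₂ a₃ a₄ a₅ : ℂ}
    (h : Tab t x v F a₁ a₂ a₃ a₄ a₅) : F 1 = 0 := by
  apply h.2.2.2.2.2 1
  · intro hh
    have := isConj_orderOf hh
    rw [orderOf_one, hc.ht] at this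
    omega
  · intro hh
    have := isConj_orderOf hh
    rw [orderOf_one, hc.hv] at this
    omega
  · intro hh
    have := isConj_orderOf hh
    rw [orderOf_one, hc.ord_sq] at this
    omega
  · intro hh
    have := isConj_orderOf hh
    rw [orderOf_one, hc.hx] at this
    omega
  · intro hh
    have := isConj_orderOf hh
    rw [orderOf_one, orderOf_inv, hc.hx] at this
    omega

theorem tab_conj {t x v : G} {F F' : G → ℂ} {a₁ a₂ a₃ a₄ a₅ b₁ b₂ b₃ b₄ b₅ : ℂ}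
    (h : Tab t x v F a₁ a₂ a₃ a₄ a₅) (h' : Tab t x v F' b₁ b₂ b₃ b₄ b₅)
    (e1 : conj a₁ = b₁) (e2 : conj a₂ = b₂) (e3 : conj a₃ = b₃) (e4 : conj a₄ = b₄)
    (e5 : conj a₅ = b₅) (g : G) : conj (F g) = F' g := by
  obtain ⟨h1, h2, h3, h4, h5, h0⟩ := h
  obtain ⟨k1, k2, k3, k4, k5, k0⟩ := h'
  by_cases c1 : IsConj t g
  · rw [h1 g c1, k1 g c1, e1]
  by_cases c2 : IsConj v g
  · rw [h2 g c2, k2 g c2, e2]
  by_cases c3 : IsConj (x ^ 2) g
  · rw [h3 g c3, k3 g c3, e3]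
  by_cases c4 : IsConj x g
  · rw [h4 g c4, k4 g c4, e4]
  by_cases c5 : IsConj x⁻¹ g
  · rw [h5 g c5, k5 g c5, e5]
  rw [h0 g c1 c2 c3 c4 c5, k0 g c1 c2 c3 c4 c5, map_zero]

theorem genClass {θ : G → ℂ} (h : IsGeneralizedCharacter G θ) : IsClassFunction G θ := by
  obtain ⟨a, b, ha, hb, rfl⟩ := h
  exact Cfsg.Agent.H4.isClassFunction_sub (Cfsg.Agent.H4.isClassFunction_of_isCharacter ha)
    (Cfsg.Agent.H4.isClassFunction_of_isCharacter hb)

theorem classInner_conj_symm [Fintype G] (φ ψ : G → ℂ) :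
    classInner φ ψ = conj (classInner ψ φ) := by
  unfold classInner
  rw [map_mul, map_sum, map_inv₀, Complex.conj_natCast]
  congr 1
  apply Finset.sum_congr rfl
  intro g _
  rw [map_mul, Complex.conj_conj, mul_comm]

end

theorem conj_s {s : ℂ} (hs : s ^ 2 = -2) : conj s = -s := by
  have h1 := congrArg Complex.re hs
  have h2 := congrArg Complex.im hs
  rw [pow_two, Complex.mul_re] at h1
  rw [pow_two, Complex.mul_im] at h2
  have h1' : s.re * s.re - s.im * s.im = -2 := by simpa using h1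
  have h2' : s.re * s.im + s.im * s.re = 0 := by simpa using h2
  have hre : s.re = 0 := by
    by_contra hne
    have him : s.im = 0 := by
      have : s.re * s.im = 0 := by linarith
      rcases mul_eq_zero.1 this with h | h
      · exact absurd h hne
      · exact h
    rw [him] at h1'
    nlinarith [mul_self_nonneg s.re]
  apply Complex.ext
  · simp [hre]
  · simp

/-- The tables of the five generalized characters on the classes of `t, v, x², x, x⁻¹`. -/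
def tab (s : ℂ) : Fin 5 → Fin 5 → ℂ :=
  ![![-4, 2, -2, s, -s], ![-4, 2, -2, -s, s], ![0, 0, 4, 2, 2], ![0, 0, 4, -2, -2],
    ![8, 2, 4, 0, 0]]

theorem gram_tab {s : ℂ} (hs : s ^ 2 = -2) (k l : Fin 5) :
    tab s k 0 * conj (tab s l 0) / 48 + tab s k 1 * conj (tab s l 1) / 6 +
      (tab s k 2 * conj (tab s l 2) + tab s k 3 * conj (tab s l 3) +
        tab s k 4 * conj (tab s l 4)) / 8 = (Gm k l : ℂ) := by
  have hcs := conj_s hs
  fin_cases k <;> fin_cases l <;> simp [tab, Gm, hcs, Complex.conj_ofNat] <;>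
    first
    | linear_combination (-1 / 4 : ℂ) * hs
    | linear_combination (1 / 4 : ℂ) * hs
    | norm_num

theorem triv_tab {s : ℂ} (hs : s ^ 2 = -2) (k : Fin 5) :
    conj (1 * conj (tab s k 0) / 48 + 1 * conj (tab s k 1) / 6 +
      (1 * conj (tab s k 2) + 1 * conj (tab s k 3) + 1 * conj (tab s k 4)) / 8) = (T0 k : ℂ) := by
  have hcs := conj_s hs
  fin_cases k <;> simp [tab, T0, hcs, Complex.conj_ofNat] <;> norm_num

theorem conj_tab01 {s : ℂ} (hs : s ^ 2 = -2) (i : Fin 5) : conj (tab s 0 i) = tab s 1 i := by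
  have hcs := conj_s hs
  fin_cases i <;> simp [tab, hcs, Complex.conj_ofNat]

theorem conj_tab2 (s : ℂ) (i : Fin 5) : conj (tab s 2 i) = tab s 2 i := by
  fin_cases i <;> simp [tab, Complex.conj_ofNat]

theorem conj_tab3 (s : ℂ) (i : Fin 5) : conj (tab s 3 i) = tab s 3 i := by
  fin_cases i <;> simp [tab, Complex.conj_ofNat]

theorem conj_tab4 (s : ℂ) (i : Fin 5) : conj (tab s 4 i) = tab s 4 i := by
  fin_cases i <;> simp [tab, Complex.conj_ofNat]

/-- The inner product of a class function with values `a, b, c, d, e` on the five classes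
with the `k`-th table. -/
noncomputable def cf (s a b c d e : ℂ) (k : Fin 5) : ℂ :=
  a * conj (tab s k 0) / 48 + b * conj (tab s k 1) / 6 +
    (c * conj (tab s k 2) + d * conj (tab s k 3) + e * conj (tab s k 4)) / 8

theorem valT_tab {s : ℂ} (hs : s ^ 2 = -2) (a b c d e : ℂ) :
    a = -2 * cf s a b c d e 0 - 2 * cf s a b c d e 1 - 3 * cf s a b c d e 2
      - 3 * cf s a b c d e 3 + 4 * cf s a b c d e 4 := by
  have hcs := conj_s hs
  simp [cf, tab, hcs, Complex.conj_ofNat]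
  ring

theorem valY_tab {s : ℂ} (hs : s ^ 2 = -2) (a b c d e : ℂ) :
    c = cf s a b c d e 2 + cf s a b c d e 3 := by
  have hcs := conj_s hs
  simp [cf, tab, hcs, Complex.conj_ofNat]
  ring

theorem valX_tab {s : ℂ} (hs : s ^ 2 = -2) (a b c d e : ℂ) :
    d = s * (cf s a b c d e 0 - cf s a b c d e 1) + cf s a b c d e 2 - cf s a b c d e 3 := by
  have hcs := conj_s hs
  simp [cf, tab, hcs, Complex.conj_ofNat]
  linear_combination ((d - e) / 4) * hs

theorem data_of_tab {G : Type u} [Group G] [Fintype G] {t x v : G} (hc : Cfg t x v) {s : ℂ}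
    (hs : s ^ 2 = -2) (M : Fin 5 → G → ℂ) (hgen : ∀ k, IsGeneralizedCharacter G (M k))
    (hTab : ∀ k, Tab t x v (M k) (tab s k 0) (tab s k 1) (tab s k 2) (tab s k 3) (tab s k 4)) :
    Data t x s M := by
  have hcl : ∀ k, IsClassFunction G (M k) := fun k => genClass (hgen k)
  have he : ∀ (χ : G → ℂ), IsIrrCharacter G χ → ∀ k,
      classInner χ (M k) = cf s (χ t) (χ v) (χ (x ^ 2)) (χ x) (χ x⁻¹) k := by
    intro χ hχ k
    have hχc : IsClassFunction G χ := Cfsg.Agent.H4.irr_isClassFunction ⟨χ, hχ⟩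
    exact eval t x v hc χ (M k) _ _ _ _ _ hχc (hTab k)
  refine ⟨hs, hgen, ?_, fun k => tab_one hc (hTab k), ?_, ?_, ?_, ?_, ?_, ?_⟩
  · intro k l
    rw [eval t x v hc (M k) (M l) _ _ _ _ _ (hcl k) (hTab l)]
    obtain ⟨v1, v2, v3, v4, v5⟩ := tab_vals (hTab k)
    rw [v1, v2, v3, v4, v5]
    exact gram_tab hs k l
  · intro k
    rw [classInner_conj_symm,
      eval t x v hc (fun _ => 1) (M k) _ _ _ _ _ (fun _ _ => rfl) (hTab k)]
    exact triv_tab hs k
  · intro g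
    exact (tab_conj (hTab 0) (hTab 1) (conj_tab01 hs 0) (conj_tab01 hs 1) (conj_tab01 hs 2)
      (conj_tab01 hs 3) (conj_tab01 hs 4) g).symm
  · intro g
    exact ⟨tab_conj (hTab 2) (hTab 2) (conj_tab2 s 0) (conj_tab2 s 1) (conj_tab2 s 2)
        (conj_tab2 s 3) (conj_tab2 s 4) g,
      tab_conj (hTab 3) (hTab 3) (conj_tab3 s 0) (conj_tab3 s 1) (conj_tab3 s 2)
        (conj_tab3 s 3) (conj_tab3 s 4) g,
      tab_conj (hTab 4) (hTab 4) (conj_tab4 s 0) (conj_tab4 s 1) (conj_tab4 s 2)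
        (conj_tab4 s 3) (conj_tab4 s 4) g⟩
  · intro χ hχ
    rw [he χ hχ 0, he χ hχ 1, he χ hχ 2, he χ hχ 3, he χ hχ 4]
    exact valT_tab hs _ _ _ _ _
  · intro χ hχ
    rw [he χ hχ 2, he χ hχ 3]
    exact valY_tab hs _ _ _ _ _
  · intro χ hχ
    rw [he χ hχ 0, he χ hχ 1, he χ hχ 2, he χ hχ 3]
    exact valX_tab hs _ _ _ _ _

/-- **S0197-DATA**. -/
theorem data : StmtData.{u} := by
  intro G _ _ t x v hc s P₁ P₂ M₃ M₄ P₅ K₁ hs g1 g2 g3 g4 g5 gK t1 t2 t3 t4 t5 tK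
  refine ⟨![P₁ - K₁, P₂ - K₁, M₃, M₄, P₅ - K₁], data_of_tab hc hs _ ?_ ?_⟩
  · intro k
    fin_cases k
    · exact Cfsg.Agent.H32.isGeneralizedCharacter_sub g1 gK
    · exact Cfsg.Agent.H32.isGeneralizedCharacter_sub g2 gK
    · exact g3
    · exact g4
    · exact Cfsg.Agent.H32.isGeneralizedCharacter_sub g5 gK
  · intro k
    fin_cases k
    · exact tab_congr (tab_sub t1 tK) (by simp [tab] <;> norm_num) (by simp [tab] <;> norm_num)
        (by simp [tab] <;> norm_num) (by simp [tab]) (by simp [tab])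
    · exact tab_congr (tab_sub t2 tK) (by simp [tab] <;> norm_num) (by simp [tab] <;> norm_num)
        (by simp [tab] <;> norm_num) (by simp [tab]) (by simp [tab])
    · exact tab_congr t3 (by simp [tab]) (by simp [tab]) (by simp [tab]) (by simp [tab])
        (by simp [tab])
    · exact tab_congr t4 (by simp [tab]) (by simp [tab]) (by simp [tab]) (by simp [tab])
        (by simp [tab])
    · exact tab_congr (tab_sub t5 tK) (by simp [tab] <;> norm_num) (by simp [tab] <;> norm_num)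
        (by simp [tab] <;> norm_num) (by simp [tab]) (by simp [tab])

example : StmtData.{u} := data

end Cfsg.Agent.H39.GL23
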