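import Mathlib
import Cfsg.Agent.H9.PGDefs

/-!
# PG-CENT (helper9, S3662): a matrix commuting with all root elements `Xc r a` and preserving
the alternating form `Jm` is the identity
-/

set_option autoImplicit false

namespace Cfsg.Agent.H39.PG

open Cfsg.Agent.H9.PG Cfsg.Agent.H94.HS

theorem cent : StCent := by
  intro M hM hJ
  have h0 := hM 0 (by norm_num) 1
  have h1 := hM 1 (by norm_num) 1
  have h2 := hM 2 (by norm_num) 1
  have h5 := hM 5 (by norm_num) 1
  have h6 := hM 6 (by norm_num) 1
  have h10 := hM 10 (by norm_num) 1
  have h11 := hM 11 (by norm_num) 1
  have m01 : M 0 1 = 0 := by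
    have e := congrFun (congrFun h1 2) 1
    simp [Matrix.mul_apply, Fin.sum_univ_six, Xc] at e
    first | exact e | linear_combination e | linear_combination -e
  have m02 : M 0 2 = 0 := by
    have e := congrFun (congrFun h1 2) 2
    simp [Matrix.mul_apply, Fin.sum_univ_six, Xc] at e
    first | exact e | linear_combination e | linear_combination -e
  have m03 : M 0 3 = 0 := by
    have e := congrFun (congrFun h1 2) 3
    simp [Matrix.mul_apply, Fin.sum_univ_six, Xc] at e
    first | exact e | linear_combination e | linear_combination -e
  have m04 : M 0 4 = 0 := by
    have e := congrFun (congrFun h1 2) 4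
    simp [Matrix.mul_apply, Fin.sum_univ_six, Xc] at e
    first | exact e | linear_combination e | linear_combination -e
  have m05 : M 0 5 = 0 := by
    have e := congrFun (congrFun h6 1) 5
    simp [Matrix.mul_apply, Fin.sum_univ_six, Xc] at e
    first | exact e | linear_combination e | linear_combination -e
  have m10 : M 1 0 = 0 := by
    have e := congrFun (congrFun h0 2) 0
    simp [Matrix.mul_apply, Fin.sum_univ_six, Xc] at e
    first | exact e | linear_combination e | linear_combination -e
  have m12 : M 1 2 = 0 := by
    have e := congrFun (congrFun h0 2) 2
    simp [Matrix.mul_apply, Fin.sum_univ_six, Xc] at e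
    first | exact e | linear_combination e | linear_combination -e
  have m13 : M 1 3 = 0 := by
    have e := congrFun (congrFun h0 2) 3
    simp [Matrix.mul_apply, Fin.sum_univ_six, Xc] at e
    first | exact e | linear_combination e | linear_combination -e
  have m14 : M 1 4 = 0 := by
    have e := congrFun (congrFun h0 2) 4
    simp [Matrix.mul_apply, Fin.sum_univ_six, Xc] at e
    first | exact e | linear_combination e | linear_combination -e
  have m15 : M 1 5 = 0 := by
    have e := congrFun (congrFun h5 0) 5
    simp [Matrix.mul_apply, Fin.sum_univ_six, Xc] at e
    first | exact e | linear_combination e | linear_combination -e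
  have m20 : M 2 0 = 0 := by
    have e := congrFun (congrFun h10 0) 0
    simp [Matrix.mul_apply, Fin.sum_univ_six, Xc] at e
    first | exact e | linear_combination e | linear_combination -e
  have m21 : M 2 1 = 0 := by
    have e := congrFun (congrFun h10 0) 1
    simp [Matrix.mul_apply, Fin.sum_univ_six, Xc] at e
    first | exact e | linear_combination e | linear_combination -e
  have m23 : M 2 3 = 0 := by
    have e := congrFun (congrFun h11 1) 3
    simp [Matrix.mul_apply, Fin.sum_univ_six, Xc] at e
    first | exact e | linear_combination e | linear_combination -e
  have m24 : M 2 4 = 0 := by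
    have e := congrFun (congrFun h10 0) 4
    simp [Matrix.mul_apply, Fin.sum_univ_six, Xc] at e
    first | exact e | linear_combination e | linear_combination -e
  have m25 : M 2 5 = 0 := by
    have e := congrFun (congrFun h10 0) 5
    simp [Matrix.mul_apply, Fin.sum_univ_six, Xc] at e
    first | exact e | linear_combination e | linear_combination -e
  have m30 : M 3 0 = 0 := by
    have e := congrFun (congrFun h5 4) 0
    simp [Matrix.mul_apply, Fin.sum_univ_six, Xc] at e
    first | exact e | linear_combination e | linear_combination -e
  have m31 : M 3 1 = 0 := by
    have e := congrFun (congrFun h10 5) 1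
    simp [Matrix.mul_apply, Fin.sum_univ_six, Xc] at e
    first | exact e | linear_combination e | linear_combination -e
  have m32 : M 3 2 = 0 := by
    have e := congrFun (congrFun h5 4) 2
    simp [Matrix.mul_apply, Fin.sum_univ_six, Xc] at e
    first | exact e | linear_combination e | linear_combination -e
  have m34 : M 3 4 = 0 := by
    have e := congrFun (congrFun h5 4) 4
    simp [Matrix.mul_apply, Fin.sum_univ_six, Xc] at e
    first | exact e | linear_combination e | linear_combination -e
  have m35 : M 3 5 = 0 := by
    have e := congrFun (congrFun h5 4) 5
    simp [Matrix.mul_apply, Fin.sum_univ_six, Xc] at e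
    first | exact e | linear_combination e | linear_combination -e
  have m40 : M 4 0 = 0 := by
    have e := congrFun (congrFun h11 5) 0
    simp [Matrix.mul_apply, Fin.sum_univ_six, Xc] at e
    first | exact e | linear_combination e | linear_combination -e
  have m41 : M 4 1 = 0 := by
    have e := congrFun (congrFun h6 3) 1
    simp [Matrix.mul_apply, Fin.sum_univ_six, Xc] at e
    first | exact e | linear_combination e | linear_combination -e
  have m42 : M 4 2 = 0 := by
    have e := congrFun (congrFun h6 3) 2
    simp [Matrix.mul_apply, Fin.sum_univ_six, Xc] at e
    first | exact e | linear_combination e | linear_combination -e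
  have m43 : M 4 3 = 0 := by
    have e := congrFun (congrFun h6 3) 3
    simp [Matrix.mul_apply, Fin.sum_univ_six, Xc] at e
    first | exact e | linear_combination e | linear_combination -e
  have m45 : M 4 5 = 0 := by
    have e := congrFun (congrFun h6 3) 5
    simp [Matrix.mul_apply, Fin.sum_univ_six, Xc] at e
    first | exact e | linear_combination e | linear_combination -e
  have m50 : M 5 0 = 0 := by
    have e := congrFun (congrFun h0 4) 0
    simp [Matrix.mul_apply, Fin.sum_univ_six, Xc] at e
    first | exact e | linear_combination e | linear_combination -e
  have m51 : M 5 1 = 0 := by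
    have e := congrFun (congrFun h1 3) 1
    simp [Matrix.mul_apply, Fin.sum_univ_six, Xc] at e
    first | exact e | linear_combination e | linear_combination -e
  have m52 : M 5 2 = 0 := by
    have e := congrFun (congrFun h0 4) 2
    simp [Matrix.mul_apply, Fin.sum_univ_six, Xc] at e
    first | exact e | linear_combination e | linear_combination -e
  have m53 : M 5 3 = 0 := by
    have e := congrFun (congrFun h0 4) 3
    simp [Matrix.mul_apply, Fin.sum_univ_six, Xc] at e
    first | exact e | linear_combination e | linear_combination -e
  have m54 : M 5 4 = 0 := by
    have e := congrFun (congrFun h0 4) 4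
    simp [Matrix.mul_apply, Fin.sum_univ_six, Xc] at e
    first | exact e | linear_combination e | linear_combination -e
  have ea : M 2 2 = M 1 1 := by
    have e := congrFun (congrFun h0 2) 1
    simp [Matrix.mul_apply, Fin.sum_univ_six, Xc] at e
    first | exact e | linear_combination e | linear_combination -e
  have eb : M 2 2 = M 0 0 := by
    have e := congrFun (congrFun h1 2) 0
    simp [Matrix.mul_apply, Fin.sum_univ_six, Xc] at e
    first | exact e | linear_combination e | linear_combination -e
  have ec : M 4 4 = M 5 5 := by
    have e := congrFun (congrFun h0 4) 5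
    simp [Matrix.mul_apply, Fin.sum_univ_six, Xc] at e
    first | exact e | linear_combination e | linear_combination -e
  have ed : M 3 3 = M 5 5 := by
    have e := congrFun (congrFun h1 3) 5
    simp [Matrix.mul_apply, Fin.sum_univ_six, Xc] at e
    first | exact e | linear_combination e | linear_combination -e
  have ee : M 2 2 = M 5 5 := by
    have e := congrFun (congrFun h2 2) 5
    simp [Matrix.mul_apply, Fin.sum_univ_six, Xc] at e
    first | exact e | linear_combination e | linear_combination -e
  have d1 : M 1 1 = M 0 0 := by rw [← ea, eb]
  have d2 : M 2 2 = M 0 0 := eb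
  have d5 : M 5 5 = M 0 0 := by rw [← ee, eb]
  have d4 : M 4 4 = M 0 0 := by rw [ec, d5]
  have d3 : M 3 3 = M 0 0 := by rw [ed, d5]
  have hl : M 0 0 * M 0 0 = 1 := by
    have e := congrFun (congrFun hJ 0) 3
    simp [Matrix.mul_apply, Matrix.transpose_apply, Fin.sum_univ_six, Jm, m01, m02, m03, m04, m05,
      m10, m12, m13, m14, m15, m20, m21, m23, m24, m25, m30, m31, m32, m34, m35, m40, m41, m42,
      m43, m45, m50, m51, m52, m53, m54, d3] at e
    exact e
  have d0 : M 0 0 = 1 := F4.sq_eq_one _ hl
  ext i j
  fin_cases i <;> fin_cases j <;>
    simp [Matrix.one_apply, m01, m02, m03, m04, m05,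
      m10, m12, m13, m14, m15, m20, m21, m23, m24, m25, m30, m31, m32, m34, m35, m40, m41, m42,
      m43, m45, m50, m51, m52, m53, m54, d0, d1, d2, d3, d4, d5]

example : Cfsg.Agent.H9.PG.StCent := cent

end Cfsg.Agent.H39.PG
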