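import Mathlib
import Cfsg.Agent.H9.PGDefs

/-!
# PG-HOM (helper9, S3662): the Steinberg cover of `G₂` over a field with four elements maps to
`GL₆(K4)` (from the relations (R1), (R2) of the matrices `XG r t`)
-/

set_option autoImplicit false

namespace Cfsg.Agent.H39.PG

open Cfsg Cfsg.Lie Cfsg.Agent.H9.PG

universe u

theorem XG_ge (r : ℕ) (h : 12 ≤ r) (t : K4) : XG r t = 1 := Units.ext (Xc_ge r h t)

section
variable (F : Type u) [Field F] (e : F ≃+* K4)

/-- the map on the generators -/
def genMap : Fin chevG2.nroots × F → GL (Fin 6) K4 := fun p => XG p.1 (e p.2)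

theorem lift_stX (r : ℕ) (t : F) :
    FreeGroup.lift (genMap F e) (chevG2.stX r t) = XG r (e t) := by
  unfold ChevalleyDatum.stX
  split_ifs with h
  · rw [FreeGroup.lift_apply_of]
    rfl
  · rw [map_one]
    have h12 : 12 ≤ r := by
      have h5 : chevG2.nroots = 12 := rfl
      omega
    exact (XG_ge r h12 _).symm

theorem lift_stWord (w : List (ℕ × F)) :
    FreeGroup.lift (genMap F e) (chevG2.stWord w) = (w.map fun p => XG p.1 (e p.2)).prod := by
  unfold ChevalleyDatum.stWord
  rw [map_list_prod, List.map_map]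
  congr 1
  apply List.map_congr_left
  intro p _
  exact lift_stX F e p.1 p.2

end

theorem hom (h1 : StR1) (h2 : StR2) : StHom.{u} := by
  intro F _ e
  have hrels : ∀ g ∈ chevG2.steinbergRelsAB F, FreeGroup.lift (genMap F e) g = 1 := by
    intro g hg
    rcases hg with ⟨r, t₁, t₂, hr, rfl⟩ | ⟨r, s, t, u, hr, hs, hsr, hsn, rfl⟩
    · rw [map_mul, map_mul, map_inv, lift_stX, lift_stX, lift_stX, map_add, h1, mul_inv_cancel]
    · rw [map_mul, map_mul, map_mul, map_mul, map_inv, map_inv, map_inv, lift_stX, lift_stX,
        lift_stWord]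
      have hnr : chevG2.nroots = 12 := rfl
      rw [h2 r s (by omega) (by omega) hsr hsn (e t) (e u), mul_inv_eq_one]
      unfold ChevalleyDatum.commWord
      rw [List.map_map]
      congr 1
      apply List.map_congr_left
      intro c _
      simp only [Function.comp_apply, map_mul, map_pow, map_neg, map_intCast]
  refine ⟨PresentedGroup.toGroup hrels, ?_⟩
  intro r t
  exact lift_stX F e r t

example (h1 : StR1) (h2 : StR2) : StHom.{u} := hom h1 h2

end Cfsg.Agent.H39.PG
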