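import Mathlib
import Cfsg.Agent.H9.PGDefs

/-!
# PG-ORD (helper9, S3662): `W6` has order 6 and `W10` has order 10
-/

set_option autoImplicit false

namespace Cfsg.Agent.H39.PG

open Cfsg.Agent.H9.PG Cfsg.Agent.H94.HS

theorem W6_val : (W6 : Matrix (Fin 6) (Fin 6) K4) = Xc 11 1 * Xc 7 1 * Xc 4 1 := rfl

theorem W10_val : (W10 : Matrix (Fin 6) (Fin 6) K4) = Xc 11 1 * Xc 7 1 * Xc 4 F4.w := rfl

set_option maxRecDepth 100000 in
theorem W6_pow6 : (Xc 11 1 * Xc 7 1 * Xc 4 1 : Matrix (Fin 6) (Fin 6) K4) ^ 6 = 1 := by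
  decide +kernel

set_option maxRecDepth 100000 in
theorem W6_pow3 : (Xc 11 1 * Xc 7 1 * Xc 4 1 : Matrix (Fin 6) (Fin 6) K4) ^ 3 ≠ 1 := by
  decide +kernel

set_option maxRecDepth 100000 in
theorem W6_pow2 : (Xc 11 1 * Xc 7 1 * Xc 4 1 : Matrix (Fin 6) (Fin 6) K4) ^ 2 ≠ 1 := by
  decide +kernel

set_option maxRecDepth 100000 in
theorem W10_pow10 : (Xc 11 1 * Xc 7 1 * Xc 4 F4.w : Matrix (Fin 6) (Fin 6) K4) ^ 10 = 1 := by
  decide +kernel

set_option maxRecDepth 100000 in
theorem W10_pow5 : (Xc 11 1 * Xc 7 1 * Xc 4 F4.w : Matrix (Fin 6) (Fin 6) K4) ^ 5 ≠ 1 := by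
  decide +kernel

set_option maxRecDepth 100000 in
theorem W10_pow2 : (Xc 11 1 * Xc 7 1 * Xc 4 F4.w : Matrix (Fin 6) (Fin 6) K4) ^ 2 ≠ 1 := by
  decide +kernel

theorem prime_dvd_six {p : ℕ} (hp : p.Prime) (h : p ∣ 6) : p = 2 ∨ p = 3 := by
  have h6 : (6 : ℕ) = 2 * 3 := by norm_num
  rw [h6] at h
  rcases (Nat.Prime.dvd_mul hp).mp h with h2 | h3
  · left
    exact (Nat.prime_dvd_prime_iff_eq hp Nat.prime_two).mp h2
  · right
    exact (Nat.prime_dvd_prime_iff_eq hp Nat.prime_three).mp h3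

theorem prime_dvd_ten {p : ℕ} (hp : p.Prime) (h : p ∣ 10) : p = 2 ∨ p = 5 := by
  have h6 : (10 : ℕ) = 2 * 5 := by norm_num
  rw [h6] at h
  rcases (Nat.Prime.dvd_mul hp).mp h with h2 | h3
  · left
    exact (Nat.prime_dvd_prime_iff_eq hp Nat.prime_two).mp h2
  · right
    exact (Nat.prime_dvd_prime_iff_eq hp Nat.prime_five).mp h3

theorem ord : StOrd := by
  constructor
  · apply orderOf_eq_of_pow_and_pow_div_prime (by norm_num)
    · apply Units.ext
      rw [Units.val_pow_eq_pow_val, W6_val, Units.val_one]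
      exact W6_pow6
    · intro p hp hpd
      rcases prime_dvd_six hp hpd with rfl | rfl
      · show W6 ^ 3 ≠ 1
        intro h
        have h5 := congrArg Units.val h
        rw [Units.val_pow_eq_pow_val, W6_val, Units.val_one] at h5
        exact W6_pow3 h5
      · show W6 ^ 2 ≠ 1
        intro h
        have h5 := congrArg Units.val h
        rw [Units.val_pow_eq_pow_val, W6_val, Units.val_one] at h5
        exact W6_pow2 h5
  · apply orderOf_eq_of_pow_and_pow_div_prime (by norm_num)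
    · apply Units.ext
      rw [Units.val_pow_eq_pow_val, W10_val, Units.val_one]
      exact W10_pow10
    · intro p hp hpd
      rcases prime_dvd_ten hp hpd with rfl | rfl
      · show W10 ^ 5 ≠ 1
        intro h
        have h5 := congrArg Units.val h
        rw [Units.val_pow_eq_pow_val, W10_val, Units.val_one] at h5
        exact W10_pow5 h5
      · show W10 ^ 2 ≠ 1
        intro h
        have h5 := congrArg Units.val h
        rw [Units.val_pow_eq_pow_val, W10_val, Units.val_one] at h5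
        exact W10_pow2 h5

example : Cfsg.Agent.H9.PG.StOrd := ord

end Cfsg.Agent.H39.PG
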