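import Cfsg.Agent.H39.OmegaLemma2

set_option autoImplicit false

namespace Cfsg.Agent.H39

open Cfsg
open scoped commutatorElement

variable {G : Type*} [Group G]

local notation "cj(" g ", " Q ")" => Subgroup.map (MulEquiv.toMonoidHom (MulAut.conj g)) Q
local notation "N(" Q ")" => Subgroup.normalizer (SetLike.coe (Q : Subgroup _))

/-- A `p'`-element normalizing a `p`-group `Q` commutes with the elements of `Q` in the
hypercentre. -/
theorem commute_of_mem_upperCentralSeries {p : ℕ} [Fact p.Prime] {Q : Subgroup G}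
    (hQ : IsPGroup p Q) {g : G} (hg : (orderOf g).Coprime p) (hgN : g ∈ N(Q)) :
    ∀ (k : ℕ) (x : G), x ∈ Q → x ∈ Subgroup.upperCentralSeries G k → Commute g x := by
  intro k
  induction k with
  | zero =>
    intro x _ hx
    rw [Subgroup.upperCentralSeries_zero, Subgroup.mem_bot] at hx
    rw [hx]; exact Commute.one_right g
  | succ k ih =>
    intro x hxQ hx
    have h1 : ⁅x, g⁆ ∈ Subgroup.upperCentralSeries G k :=
      Subgroup.mem_upperCentralSeries_succ_iff.mp hx g
    exact commute_of_commute_comm hQ hg hgN hxQ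
      (ih _ (comm_mem_of_mem_normalizer hgN hxQ) h1).symm

theorem eq_bot_of_le_commutator [Finite G] {p : ℕ} [Fact p.Prime] {P Q : Subgroup G}
    (hP : IsPGroup p P) (hQP : Q ≤ P) (h : Q ≤ ⁅Q, P⁆) : Q = ⊥ := by
  have key : ∀ k : ℕ, Q ≤ P.lowerCentralSeries k := by
    intro k
    induction k with
    | zero => exact hQP
    | succ k ih =>
      rw [Subgroup.lowerCentralSeries_succ]
      exact le_trans h (Subgroup.commutator_mono ih le_rfl)
  haveI : Group.IsNilpotent ↥P := hP.isNilpotent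
  obtain ⟨n, hn⟩ := (Subgroup.isNilpotent_iff_lowerCentralSeries P).mp inferInstance
  exact le_bot_iff.mp (hn ▸ key n)

/-- If `P` controls fusion of its elements of order dividing `p` (dividing `4` when `p = 2`),
then `p'`-elements normalizing a subgroup of `P` centralize it. -/
theorem centralizes_of_fusion [Finite G] {p : ℕ} [Fact p.Prime] (P : Sylow p G)
    (hf : ∀ a ∈ (P : Subgroup G), (a ^ p = 1 ∨ (p = 2 ∧ a ^ 4 = 1)) → ∀ g : G,
      g * a * g⁻¹ ∈ (P : Subgroup G) → ∃ x ∈ (P : Subgroup G), g * a * g⁻¹ = x * a * x⁻¹) :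
    ∀ (n : ℕ) (Q : Subgroup G), Nat.card Q = n → Q ≤ (P : Subgroup G) → ∀ g : G, g ∈ N(Q) →
      (orderOf g).Coprime p → ∀ x ∈ Q, Commute g x := by
  intro n
  induction n using Nat.strong_induction_on with
  | _ n ih =>
  intro Q hn hQP g hgN hg
  have hQ : IsPGroup p Q := P.isPGroup'.to_le hQP
  set D : Subgroup G := Subgroup.closure
    {c | ∃ a ∈ Q, (a ^ p = 1 ∨ (p = 2 ∧ a ^ 4 = 1)) ∧ c = ⁅a, g⁆} with hD
  have hDQ : D ≤ Q := by
    rw [hD, Subgroup.closure_le]
    rintro _ ⟨a, ha, -, rfl⟩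
    exact comm_mem_of_mem_normalizer hgN ha
  have hDcomm : D ≤ ⁅Q, (P : Subgroup G)⁆ := by
    rw [hD, Subgroup.closure_le]
    rintro _ ⟨a, ha, haΩ, rfl⟩
    have hga : g * a * g⁻¹ ∈ Q := (Subgroup.mem_normalizer_iff.mp hgN a).mp ha
    obtain ⟨x, hx, hxa⟩ := hf a (hQP ha) haΩ g (hQP hga)
    have e : ⁅a, g⁆ = ⁅a, x⁆ := by
      rw [commutatorElement_def, commutatorElement_def]
      calc a * g * a⁻¹ * g⁻¹ = a * (g * a * g⁻¹)⁻¹ := by group
        _ = a * (x * a * x⁻¹)⁻¹ := by rw [hxa]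
        _ = a * x * a⁻¹ * x⁻¹ := by group
    rw [SetLike.mem_coe, e]
    exact Subgroup.commutator_mem_commutator ha hx
  have hx1 : ∀ x ∈ Q, x = 1 → Commute g x := by
    intro x _ h; rw [h]; exact Commute.one_right g
  by_cases hDeq : D = Q
  · have hbot : Q = ⊥ := eq_bot_of_le_commutator P.isPGroup' hQP (by rw [hDeq] at hDcomm; exact hDcomm)
    intro x hx
    rw [hbot] at hx
    exact hx1 x (by rw [hbot]; exact hx) (Subgroup.mem_bot.mp hx)
  · have hgD : g ∈ N(D) := by
      apply mem_normalizer_of_conjMap_le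
      rw [Subgroup.map_le_iff_le_comap, hD, Subgroup.closure_le]
      rintro _ ⟨a, ha, haΩ, rfl⟩
      rw [SetLike.mem_coe, Subgroup.mem_comap]
      apply Subgroup.subset_closure
      refine ⟨g * a * g⁻¹, (Subgroup.mem_normalizer_iff.mp hgN a).mp ha, ?_, ?_⟩
      · rcases haΩ with h | ⟨h2, h4⟩
        · left; rw [conj_pow, h]; group
        · right; refine ⟨h2, ?_⟩; rw [conj_pow, h4]; group
      · simp only [MulEquiv.toMonoidHom_eq_coe, MonoidHom.coe_coe, MulAut.conj_apply,
          commutatorElement_def]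
        group
    have hlt : Nat.card D < n := by
      rw [← hn]; exact card_lt_card_of_lt (lt_of_le_of_ne hDQ hDeq)
    have hgDc := ih _ hlt D rfl (hDQ.trans hQP) g hgD hg
    have hΩ : ∀ x ∈ Q, (x ^ p = 1 ∨ (p = 2 ∧ x ^ 4 = 1)) → Commute g x := by
      intro a ha haΩ
      apply commute_of_commute_comm hQ hg hgN ha
      exact (hgDc _ (Subgroup.subset_closure ⟨a, ha, haΩ, rfl⟩)).symm
    exact omega_lemma_aux hg _ Q rfl hQ hgN hΩ

end Cfsg.Agent.H39
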