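import Cfsg.Agent.H39.PNilp

set_option autoImplicit false

namespace Cfsg.Agent.H39

open Cfsg

variable {G : Type*} [Group G]

/-- A Sylow `p`-subgroup is transitive on the cosets of a subgroup of `p`-power index. -/
theorem exists_mul_of_index_pow [Finite G] {p : ℕ} [Fact p.Prime] (P : Sylow p G) {C : Subgroup G}
    {k : ℕ} (hC : C.index = p ^ k) (g : G) : ∃ s ∈ (P : Subgroup G), ∃ c ∈ C, g = s * c := by
  have hp := (Fact.out : p.Prime)
  obtain ⟨n, hn⟩ := IsPGroup.iff_card.mp P.isPGroup'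
  obtain ⟨j, hj⟩ := IsPGroup.iff_card.mp
    (P.isPGroup'.to_le (inf_le_right : C ⊓ (P : Subgroup G) ≤ P))
  have h1 : Nat.card C * p ^ k = Nat.card G := by rw [← hC]; exact C.card_mul_index
  have h2 : Nat.card (P : Subgroup G) * (P : Subgroup G).index = Nat.card G :=
    (P : Subgroup G).card_mul_index
  have h3 : p ^ j ∣ Nat.card C := hj ▸ Subgroup.card_dvd_of_le inf_le_left
  have h4 : p ^ (j + k) ∣ p ^ n * (P : Subgroup G).index := by
    rw [pow_add, ← hn, h2, ← h1]; exact Nat.mul_dvd_mul_right h3 _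
  have h5 : p ^ (j + k) ∣ p ^ n :=
    (Nat.Coprime.pow_left _ ((Nat.Prime.coprime_iff_not_dvd hp).mpr P.not_dvd_index)).dvd_of_dvd_mul_right h4
  have h6 : j + k ≤ n := (Nat.pow_dvd_pow_iff_le_right hp.one_lt).mp h5
  have h7 : C.relIndex (P : Subgroup G) * p ^ j = p ^ n := by
    rw [← hj, ← hn, ← Subgroup.inf_relIndex_right]
    have := Subgroup.relIndex_mul_relIndex ⊥ (C ⊓ (P : Subgroup G)) (P : Subgroup G) bot_le inf_le_right
    rw [Subgroup.relIndex_bot_left, Subgroup.relIndex_bot_left] at this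
    rw [mul_comm]; exact this
  have h8 : p ^ k ≤ C.relIndex (P : Subgroup G) := by
    have : C.relIndex (P : Subgroup G) = p ^ (n - j) := by
      apply Nat.eq_of_mul_eq_mul_right (pow_pos hp.pos j)
      rw [h7, ← pow_add, Nat.sub_add_cancel (by omega)]
    rw [this]; exact Nat.pow_le_pow_right hp.pos (by omega)
  have hcard : Nat.card (↥(⊤ : Subgroup G) ⧸ C.subgroupOf ⊤)
      ≤ Nat.card (↥(P : Subgroup G) ⧸ C.subgroupOf (P : Subgroup G)) := by
    have e1 : Nat.card (↥(⊤ : Subgroup G) ⧸ C.subgroupOf ⊤) = C.relIndex ⊤ := rfl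
    have e2 : Nat.card (↥(P : Subgroup G) ⧸ C.subgroupOf (P : Subgroup G))
        = C.relIndex (P : Subgroup G) := rfl
    rw [e1, e2, Subgroup.relIndex_top_right, hC]; exact h8
  have hbij := (Subgroup.quotientSubgroupOfEmbeddingOfLE C
    (le_top : (P : Subgroup G) ≤ ⊤)).injective.bijective_of_nat_card_le hcard
  obtain ⟨q, hq⟩ := hbij.2 (QuotientGroup.mk ⟨g, Subgroup.mem_top g⟩)
  induction q using QuotientGroup.induction_on with
  | H s =>
    rw [Subgroup.quotientSubgroupOfEmbeddingOfLE_apply_mk, QuotientGroup.eq] at hq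
    refine ⟨s.1, s.2, s.1⁻¹ * g, ?_, by group⟩
    exact hq

end Cfsg.Agent.H39
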