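import Mathlib
import Cfsg.Agent.H7.PsDefs

/-!
# PS-F2 (helper7, S3664): an involution of `Sp₆(3)` commuting with an element of order 13 is `±1`

Pure matrix algebra: `P := -1 - T`, `Q := T - 1` are complementary idempotents (characteristic 3),
`B₁ := P * B + Q` is symplectic with `B₁ ^ 13 = 1` and fixes the image of `Q`.
-/

set_option autoImplicit false

namespace Cfsg.Agent.H39.Ps

open Cfsg.Agent.H7.Ps Matrix

/-- the twisted element `P * B + Q` preserves the form -/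
theorem f2_sp_aux {n : Type*} [Fintype n] [DecidableEq n] {R : Type*} [CommRing R]
    (J B P Q : Matrix n n R) (hB : B * J * Bᵀ = J) (hPQ1 : P + Q = 1) (hPQ0 : P * Q = 0)
    (hPP : P * P = P) (hQQ : Q * Q = Q) (hPJ : P * J = J * Pᵀ) (hQJ : Q * J = J * Qᵀ)
    (hQB : Q * B = B * Q) : (P * B + Q) * J * (P * B + Q)ᵀ = J := by
  have e1 : P * B * J * (Bᵀ * Pᵀ) = P * J := by
    calc P * B * J * (Bᵀ * Pᵀ) = P * (B * J * Bᵀ) * Pᵀ := by simp only [Matrix.mul_assoc]
      _ = P * J * Pᵀ := by rw [hB]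
      _ = J * (P * P)ᵀ := by rw [hPJ, Matrix.transpose_mul, Matrix.mul_assoc]
      _ = P * J := by rw [hPP, hPJ]
  have e2 : P * B * J * Qᵀ = 0 := by
    calc P * B * J * Qᵀ = P * B * (J * Qᵀ) := by rw [Matrix.mul_assoc]
      _ = P * (B * Q) * J := by rw [← hQJ]; simp only [Matrix.mul_assoc]
      _ = (P * Q) * B * J := by rw [← hQB]; simp only [Matrix.mul_assoc]
      _ = 0 := by rw [hPQ0, Matrix.zero_mul, Matrix.zero_mul]
  have e3 : Q * J * (Bᵀ * Pᵀ) = 0 := by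
    calc Q * J * (Bᵀ * Pᵀ) = J * (P * B * Q)ᵀ := by
          rw [hQJ, Matrix.transpose_mul, Matrix.transpose_mul]; simp only [Matrix.mul_assoc]
      _ = J * (P * Q * B)ᵀ := by rw [Matrix.mul_assoc P B Q, ← hQB, ← Matrix.mul_assoc]
      _ = 0 := by rw [hPQ0, Matrix.zero_mul, Matrix.transpose_zero, Matrix.mul_zero]
  have e4 : Q * J * Qᵀ = Q * J := by
    calc Q * J * Qᵀ = J * (Q * Q)ᵀ := by rw [hQJ, Matrix.transpose_mul, Matrix.mul_assoc]
      _ = Q * J := by rw [hQQ, hQJ]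
  simp only [Matrix.transpose_add, Matrix.transpose_mul, Matrix.add_mul, Matrix.mul_add]
  rw [e1, e2, e3, e4]
  simp only [add_zero, zero_add]
  rw [← Matrix.add_mul, hPQ1, Matrix.one_mul]

/-- powers of `P * B + Q` -/
theorem f2_pow_aux {R : Type*} [Ring R] (B P Q : R) (hPP : P * P = P) (hQQ : Q * Q = Q)
    (hPQ0 : P * Q = 0) (hQP0 : Q * P = 0) (hPB : P * B = B * P) (hQB : Q * B = B * Q) :
    ∀ n : ℕ, (P * B + Q) ^ (n + 1) = P * B ^ (n + 1) + Q := by
  intro n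
  induction n with
  | zero => simp
  | succ n ih =>
    have c1 : B ^ (n + 1) * P = P * B ^ (n + 1) :=
      ((show Commute P B from hPB).pow_right (n + 1)).symm.eq
    have c2 : B ^ (n + 1) * Q = Q * B ^ (n + 1) :=
      ((show Commute Q B from hQB).pow_right (n + 1)).symm.eq
    have t1 : P * B ^ (n + 1) * (P * B) = P * B ^ (n + 1 + 1) := by
      calc P * B ^ (n + 1) * (P * B) = P * (B ^ (n + 1) * P) * B := by simp only [mul_assoc]
        _ = P * P * B ^ (n + 1) * B := by rw [c1]; simp only [mul_assoc]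
        _ = P * B ^ (n + 1 + 1) := by rw [hPP, mul_assoc, ← pow_succ]
    have t2 : P * B ^ (n + 1) * Q = 0 := by
      calc P * B ^ (n + 1) * Q = P * (B ^ (n + 1) * Q) := by rw [mul_assoc]
        _ = P * Q * B ^ (n + 1) := by rw [c2, mul_assoc]
        _ = 0 := by rw [hPQ0, zero_mul]
    have t3 : Q * (P * B) = 0 := by rw [← mul_assoc, hQP0, zero_mul]
    rw [pow_succ, ih, add_mul, mul_add, mul_add, t1, t2, t3, hQQ, add_zero, zero_add]

/-- [PS-F2] -/
theorem f2 (h1 : StF1) : StF2 := by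
  intro B T hB hT hB13 hB1 hTB hTT
  classical
  have hBJ0 : B * Matrix.J (Fin 3) (ZMod 3) * Bᵀ = Matrix.J (Fin 3) (ZMod 3) :=
    SymplecticGroup.mem_iff.mp hB
  have hTJ0 : T * Matrix.J (Fin 3) (ZMod 3) * Tᵀ = Matrix.J (Fin 3) (ZMod 3) :=
    SymplecticGroup.mem_iff.mp hT
  have h3 : (1 : Mat) + 1 + 1 = 0 := by
    have h30 : (1 : ZMod 3) + 1 + 1 = 0 := by decide
    have h31 : ((1 : ZMod 3) + 1 + 1) • (1 : Mat) = 1 + 1 + 1 := by
      simp only [add_smul, one_smul]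
    rw [← h31, h30, zero_smul]
  obtain ⟨J, hJdef⟩ : ∃ J : Mat, J = Matrix.J (Fin 3) (ZMod 3) := ⟨_, rfl⟩
  rw [← hJdef] at hBJ0 hTJ0
  have hTJ : T * J = J * Tᵀ := by
    have h5 : T * (T * J * Tᵀ) = T * J := by rw [hTJ0]
    rw [← mul_assoc, ← mul_assoc, hTT, one_mul] at h5
    exact h5.symm
  obtain ⟨P, hP⟩ : ∃ P : Mat, P = -1 - T := ⟨_, rfl⟩
  obtain ⟨Q, hQ⟩ : ∃ Q : Mat, Q = T - 1 := ⟨_, rfl⟩
  have hPQ1 : P + Q = 1 := by
    have h5 : P + Q - 1 = -(1 + 1 + 1) := by rw [hP, hQ]; abel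
    rw [h3, neg_zero] at h5
    exact sub_eq_zero.mp h5
  have hPQ0 : P * Q = 0 := by
    have h5 : P * Q = 1 - T * T := by rw [hP, hQ]; noncomm_ring
    rw [h5, hTT, sub_self]
  have hQP0 : Q * P = 0 := by
    have h5 : Q * P = 1 - T * T := by rw [hP, hQ]; noncomm_ring
    rw [h5, hTT, sub_self]
  have hPeq : P = 1 - Q := eq_sub_of_add_eq hPQ1
  have hQeq : Q = 1 - P := eq_sub_of_add_eq' hPQ1
  have hPP : P * P = P := by
    calc P * P = P * (1 - Q) := by rw [← hPeq]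
      _ = P := by rw [mul_sub, mul_one, hPQ0, sub_zero]
  have hQQ : Q * Q = Q := by
    calc Q * Q = Q * (1 - P) := by rw [← hQeq]
      _ = Q := by rw [mul_sub, mul_one, hQP0, sub_zero]
  have hPJ : P * J = J * Pᵀ := by
    rw [hP, Matrix.transpose_sub, Matrix.transpose_neg, Matrix.transpose_one, sub_mul, mul_sub,
      hTJ, neg_mul, mul_neg, one_mul, mul_one]
  have hQJ : Q * J = J * Qᵀ := by
    rw [hQ, Matrix.transpose_sub, Matrix.transpose_one, sub_mul, mul_sub, hTJ, one_mul, mul_one]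
  have hPB : P * B = B * P := by
    rw [hP, sub_mul, mul_sub, hTB, neg_mul, mul_neg, one_mul, mul_one]
  have hQB : Q * B = B * Q := by
    rw [hQ, sub_mul, mul_sub, hTB, one_mul, mul_one]
  obtain ⟨B₁, hB₁⟩ : ∃ B₁ : Mat, B₁ = P * B + Q := ⟨_, rfl⟩
  have hB₁Sp : B₁ ∈ Sp := by
    refine SymplecticGroup.mem_iff.mpr ?_
    rw [← hJdef, hB₁]
    exact f2_sp_aux J B P Q hBJ0 hPQ1 hPQ0 hPP hQQ hPJ hQJ hQB
  have hB₁13 : B₁ ^ 13 = 1 := by
    rw [hB₁, f2_pow_aux B P Q hPP hQQ hPQ0 hQP0 hPB hQB 12, hB13, mul_one, hPQ1]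
  have hB₁Q : B₁ * Q = Q := by
    rw [hB₁, add_mul, hQQ, mul_assoc, ← hQB, ← mul_assoc, hPQ0, zero_mul, zero_add]
  by_cases hQ0 : Q = 0
  · left
    rw [hQ] at hQ0
    exact sub_eq_zero.mp hQ0
  · right
    have hB₁1 : B₁ = 1 := by
      by_contra hne
      apply hQ0
      have hall : ∀ w, Q.mulVec w = 0 := by
        intro w
        apply h1 B₁ hB₁Sp hB₁13 hne
        rw [Matrix.mulVec_mulVec, hB₁Q]
      ext i j
      have h5 := congrFun (hall (Pi.single j 1)) i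
      simpa [Matrix.mulVec, dotProduct, Pi.single_apply] using h5
    have hPB1 : P * (B - 1) = 0 := by
      have h5 : P * B + Q = P + Q := by rw [← hB₁, hB₁1, hPQ1]
      have h6 : P * B = P := add_right_cancel h5
      rw [mul_sub, mul_one, h6, sub_self]
    have hinj : Function.Injective (B - 1).mulVec := by
      intro v w hvw
      have h5 : (B - 1).mulVec (v - w) = 0 := by
        rw [Matrix.mulVec_sub, hvw, sub_self]
      have h6 : B.mulVec (v - w) = v - w := by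
        rw [Matrix.sub_mulVec, Matrix.one_mulVec] at h5
        exact sub_eq_zero.mp h5
      exact sub_eq_zero.mp (h1 B hB hB13 hB1 _ h6)
    have hunit : IsUnit (B - 1) := Matrix.mulVec_injective_iff_isUnit.mp hinj
    have hP0 : P = 0 := (hunit.mul_left_eq_zero).mp hPB1
    rw [hP] at hP0
    exact (sub_eq_zero.mp hP0).symm

example (h1 : Cfsg.Agent.H7.Ps.StF1) : Cfsg.Agent.H7.Ps.StF2 := f2 h1

end Cfsg.Agent.H39.Ps
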