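import Mathlib
import Cfsg.Prelude.Def_Characters
import Cfsg.Agent.H83.Basic

/-!
# Counting lemmas for S4504 (Brauer: faithful character of degree `(p-1)/2`)

Convolution of irreducible characters and the "fourth moment" bound
`|G| ≤ p * f * (p + 1)` (case `p = 4a + 3`, `f = 2a + 1`).
-/

set_option autoImplicit false

namespace Cfsg.Agent.H39.PslCount

open Cfsg Cfsg.Agent.H83
open scoped ComplexConjugate

universe u
variable {G : Type u} [Group G] [Fintype G]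

/-- first orthogonality relation, with complex conjugation -/
theorem ortho {χ ψ : G → ℂ} (hχ : IsIrrCharacter G χ) (hψ : IsIrrCharacter G ψ) :
    ∑ g, χ g * conj (ψ g) = if χ = ψ then (Nat.card G : ℂ) else 0 := by
  have h := irr_orthogonality hχ hψ
  rw [← h]
  refine Finset.sum_congr rfl fun g _ => ?_
  rw [IsIrrCharacter.inv_eq_conj hψ g]

/-- convolution of two functions on `G` -/
noncomputable def cv (A B : G → ℂ) (g : G) : ℂ := ∑ y, A y * B (y⁻¹ * g)

/-- generalized orthogonality: convolution of irreducible characters -/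
theorem cv_irr {χ ψ : G → ℂ} (hχ : IsIrrCharacter G χ) (hψ : IsIrrCharacter G ψ) (h : G) :
    cv χ ψ h = if χ = ψ then (Nat.card G : ℂ) * ψ h / ψ 1 else 0 := by
  have hcard : (Nat.card G : ℂ) ≠ 0 := by
    exact_mod_cast (Nat.card_pos (α := G)).ne'
  have key : ∑ x : G, ∑ y : G, χ y * ψ (x * y⁻¹ * x⁻¹ * h) = (Nat.card G : ℂ) * cv χ ψ h := by
    have : ∀ x : G, ∑ y : G, χ y * ψ (x * y⁻¹ * x⁻¹ * h) = cv χ ψ h := by
      intro x
      unfold cv
      rw [← Equiv.sum_comp (MulAut.conj x).toEquiv (fun y => χ y * ψ (y⁻¹ * h))]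
      refine Finset.sum_congr rfl fun y _ => ?_
      simp only [MulEquiv.toEquiv_eq_coe, EquivLike.coe_coe, MulAut.conj_apply]
      rw [IsIrrCharacter.conj_mul_comm hχ]
      congr 2
      group
    simp only [this, Finset.sum_const, Finset.card_univ, nsmul_eq_mul, Nat.card_eq_fintype_card]
  have key2 : ∑ x : G, ∑ y : G, χ y * ψ (x * y⁻¹ * x⁻¹ * h) =
      ((Nat.card G : ℂ) * ψ h / ψ 1) * ∑ y, χ y * ψ y⁻¹ := by
    rw [Finset.sum_comm, Finset.mul_sum]
    refine Finset.sum_congr rfl fun y _ => ?_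
    rw [← Finset.mul_sum, irr_sum_conj_mul hψ]
    ring
  rw [irr_orthogonality hχ hψ] at key2
  have h3 := key.symm.trans key2
  split_ifs with heq
  · rw [if_pos heq] at h3
    have h4 : (Nat.card G : ℂ) * cv χ ψ h =
        (Nat.card G : ℂ) * ((Nat.card G : ℂ) * ψ h / ψ 1) := by
      rw [h3]; ring
    exact mul_left_cancel₀ hcard h4
  · rw [if_neg heq, mul_zero] at h3
    exact (mul_eq_zero.mp h3).resolve_left hcard

/-- convolution square of a linear combination of distinct irreducible characters -/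
theorem cv_family {ι : Type} [Fintype ι] [DecidableEq ι] (c : ι → ℂ) (X : ι → G → ℂ)
    (hX : ∀ i, IsIrrCharacter G (X i)) (hinj : Function.Injective X) (g : G) :
    cv (fun y => ∑ i, c i * X i y) (fun y => ∑ i, c i * X i y) g =
      ∑ i, c i ^ 2 * ((Nat.card G : ℂ) * X i g / X i 1) := by
  unfold cv
  have h1 : ∀ y : G, (∑ i, c i * X i y) * (∑ j, c j * X j (y⁻¹ * g)) =
      ∑ i, ∑ j, c i * c j * (X i y * X j (y⁻¹ * g)) := by
    intro y
    rw [Finset.sum_mul_sum]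
    refine Finset.sum_congr rfl fun i _ => Finset.sum_congr rfl fun j _ => by ring
  simp only [h1]
  rw [Finset.sum_comm]
  refine Finset.sum_congr rfl fun i _ => ?_
  rw [Finset.sum_comm]
  have h2 : ∀ j, ∑ y : G, c i * c j * (X i y * X j (y⁻¹ * g)) =
      c i * c j * cv (X i) (X j) g := by
    intro j; unfold cv; rw [Finset.mul_sum]
  simp only [h2, cv_irr (hX i) (hX _)]
  rw [Finset.sum_eq_single i]
  · rw [if_pos rfl]; ring
  · intro j _ hji
    rw [if_neg (fun h => hji (hinj h).symm), mul_zero]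
  · intro h; exact absurd (Finset.mem_univ i) h

/-- norm square of a linear combination of distinct irreducible characters -/
theorem ortho_family {ι : Type} [Fintype ι] [DecidableEq ι] (c : ι → ℂ) (X : ι → G → ℂ)
    (hX : ∀ i, IsIrrCharacter G (X i)) (hinj : Function.Injective X) :
    ∑ g, (∑ i, c i * X i g) * conj (∑ i, c i * X i g) =
      (Nat.card G : ℂ) * ∑ i, c i * conj (c i) := by
  have h1 : ∀ g : G, (∑ i, c i * X i g) * conj (∑ j, c j * X j g) =
      ∑ i, ∑ j, c i * conj (c j) * (X i g * conj (X j g)) := by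
    intro g
    rw [map_sum, Finset.sum_mul_sum]
    refine Finset.sum_congr rfl fun i _ => Finset.sum_congr rfl fun j _ => by
      rw [map_mul]; ring
  simp only [h1]
  rw [Finset.sum_comm, Finset.mul_sum]
  refine Finset.sum_congr rfl fun i _ => ?_
  rw [Finset.sum_comm]
  have h2 : ∀ j, ∑ g : G, c i * conj (c j) * (X i g * conj (X j g)) =
      c i * conj (c j) * ∑ g : G, X i g * conj (X j g) := by
    intro j; rw [Finset.mul_sum]
  simp only [h2, ortho (hX i) (hX _)]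
  rw [Finset.sum_eq_single i]
  · rw [if_pos rfl]; ring
  · intro j _ hji
    rw [if_neg (fun h => hji (hinj h).symm), mul_zero]
  · intro h; exact absurd (Finset.mem_univ i) h

theorem aux_real (P x y : ℝ) (hP : 0 ≤ P) (hx : 0 ≤ x) (hy : 0 ≤ y)
    (hx2 : x ^ 2 = 0 ∨ x ^ 2 = P) (hy2 : y ^ 2 = 0 ∨ y ^ 2 = P) :
    P * (x * y) ≤ x ^ 2 * y ^ 2 := by
  rcases hx2 with h | h
  · have h0 : x = 0 := by simpa using h
    subst h0; simp
  · rcases hy2 with h' | h'
    · have h0 : y = 0 := by simpa using h'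
      subst h0; simp
    · have hxy : (x * y) ^ 2 = P ^ 2 := by rw [mul_pow, h, h']; ring
      have h3 : x * y = P := (sq_eq_sq₀ (mul_nonneg hx hy) hP).mp hxy
      rw [h3, h, h']

/-- **Fourth moment bound, case `p = 4a + 3`.**  Let `θ` be a faithful irreducible character of
degree `f = 2a + 1` with `θ θ̄ = 1 + ψ_1 + … + ψ_a` (distinct irreducible of degree `p + 1`) and
`θ² = θ̄ + φ_1 + … + φ_a` (distinct irreducible of degree `p - 1`), and let `S` be a set of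
`2|G|/p` elements on which `θ + θ̄ = -1` and `θ θ̄ = a + 1`.  Then `|G| ≤ p f (p + 1)`. -/
theorem card_le_of_three_mod_four (a : ℕ) (ha : 1 ≤ a)
    (θ θc : G → ℂ) (hθ : IsIrrCharacter G θ) (hθc : IsIrrCharacter G θc)
    (hconj : ∀ g, θc g = conj (θ g))
    (hdeg : θ 1 = ((2 * a + 1 : ℕ) : ℂ))
    (hfaith : ∀ g, θ g = θ 1 → g = 1)
    (ψ : Fin a → G → ℂ) (hψ : ∀ j, IsIrrCharacter G (ψ j)) (hψinj : Function.Injective ψ)
    (hψdeg : ∀ j, ψ j 1 = ((4 * a + 4 : ℕ) : ℂ))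
    (φ : Fin a → G → ℂ) (hφ : ∀ k, IsIrrCharacter G (φ k)) (hφinj : Function.Injective φ)
    (hφdeg : ∀ k, φ k 1 = ((4 * a + 2 : ℕ) : ℂ))
    (h1 : ∀ g, θ g * conj (θ g) = 1 + ∑ j, ψ j g)
    (h2 : ∀ g, θ g * θ g = conj (θ g) + ∑ k, φ k g)
    (S : Finset G) (hS : S.card * (4 * a + 3) = 2 * Nat.card G)
    (hS1 : ∀ g ∈ S, θ g + conj (θ g) = -1)
    (hS2 : ∀ g ∈ S, θ g * conj (θ g) = ((a + 1 : ℕ) : ℂ)) :
    Nat.card G ≤ (4 * a + 3) * (2 * a + 1) * (4 * a + 4) := by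
  classical
  obtain ⟨n, hn⟩ : ∃ n : ℕ, n = Nat.card G := ⟨_, rfl⟩
  rw [← hn] at hS ⊢
  have hnpos : 0 < n := by rw [hn]; exact Nat.card_pos
  have hcard : (n : ℂ) ≠ 0 := by exact_mod_cast hnpos.ne'
  have hone : IsIrrCharacter G (fun _ => (1 : ℂ)) := isIrrCharacter_one G
  have ortho' : ∀ {χ χ' : G → ℂ}, IsIrrCharacter G χ → IsIrrCharacter G χ' →
      ∑ g, χ g * conj (χ' g) = if χ = χ' then (n : ℂ) else 0 := by
    intro χ χ' hχ hχ'; rw [hn]; exact ortho hχ hχ'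
  have cv_irr' : ∀ {χ χ' : G → ℂ}, IsIrrCharacter G χ → IsIrrCharacter G χ' → ∀ g,
      cv χ χ' g = if χ = χ' then (n : ℂ) * χ' g / χ' 1 else 0 := by
    intro χ χ' hχ hχ' g; rw [hn]; exact cv_irr hχ hχ' g
  -- `θ ≠ θc`
  have hSne : S.Nonempty := by
    rw [Finset.nonempty_iff_ne_empty]
    rintro rfl
    simp at hS
    omega
  have hne : θ ≠ θc := by
    obtain ⟨g₀, hg₀⟩ := hSne
    intro h
    have e1 : θ g₀ = conj (θ g₀) := by rw [← hconj, ← h]
    have e2 := hS1 g₀ hg₀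
    have e3 := hS2 g₀ hg₀
    rw [← e1] at e2 e3
    have e4 : θ g₀ = -1 / 2 := by linear_combination e2 / 2
    rw [e4] at e3
    have e5 : ((4 * (a + 1) : ℕ) : ℂ) = ((1 : ℕ) : ℂ) := by
      push_cast at e3 ⊢
      linear_combination (-4 : ℂ) * e3
    have e6 : 4 * (a + 1) = 1 := by exact_mod_cast e5
    omega
  -- sum of `|δ|²`
  have hsumδ : ∑ g, (θ g - θc g) * conj (θ g - θc g) = 2 * (n : ℂ) := by
    have e : ∀ g, (θ g - θc g) * conj (θ g - θc g) =
        θ g * conj (θ g) - θ g * conj (θc g) - θc g * conj (θ g) + θc g * conj (θc g) := by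
      intro g; rw [map_sub]; ring
    simp only [e, Finset.sum_add_distrib, Finset.sum_sub_distrib]
    rw [ortho' hθ hθ, ortho' hθ hθc, ortho' hθc hθ, ortho' hθc hθc, if_pos rfl, if_neg hne,
      if_neg (Ne.symm hne), if_pos rfl]
    ring
  have hδS : ∀ g ∈ S, (θ g - θc g) * conj (θ g - θc g) = ((4 * a + 3 : ℕ) : ℂ) := by
    intro g hg
    have e2 := hS1 g hg
    have e3 := hS2 g hg
    rw [hconj, map_sub, Complex.conj_conj]
    push_cast at e3 ⊢
    linear_combination 4 * e3 - (θ g + conj (θ g) - 1) * e2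
  have hd : ∀ g, (θ g - θc g) * conj (θ g - θc g) =
      ((Complex.normSq (θ g - θc g) : ℝ) : ℂ) := fun g => Complex.mul_conj _
  have hsumd : ∑ g, Complex.normSq (θ g - θc g) = 2 * (n : ℝ) := by
    have h := hsumδ
    simp only [hd] at h
    exact_mod_cast h
  have hdS : ∀ g ∈ S, Complex.normSq (θ g - θc g) = ((4 * a + 3 : ℕ) : ℝ) := by
    intro g hg
    have h := hδS g hg
    rw [hd] at h
    exact_mod_cast h
  have hdzero : ∀ g, g ∉ S → θ g = θc g := by
    have hsplit := Finset.sum_add_sum_compl S (fun g => Complex.normSq (θ g - θc g))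
    rw [hsumd, Finset.sum_congr rfl hdS, Finset.sum_const, nsmul_eq_mul] at hsplit
    have hS' : (S.card : ℝ) * ((4 * a + 3 : ℕ) : ℝ) = 2 * (n : ℝ) := by exact_mod_cast hS
    have hz : ∑ g ∈ Sᶜ, Complex.normSq (θ g - θc g) = 0 := by linarith
    have hz2 := (Finset.sum_eq_zero_iff_of_nonneg (fun g _ => Complex.normSq_nonneg _)).mp hz
    intro g hg
    have h := hz2 g (Finset.mem_compl.mpr hg)
    rw [Complex.normSq_eq_zero] at h
    exact sub_eq_zero.mp h
  have hreal : ∀ g, g ∉ S → conj (θ g) = θ g := by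
    intro g hg; rw [← hconj, ← hdzero g hg]
  have hΦ : ∀ g, θ g * θ g - conj (θ g) = conj (θ g) * conj (θ g) - θ g := by
    intro g
    by_cases hg : g ∈ S
    · have e2 := hS1 g hg
      linear_combination (θ g - conj (θ g)) * e2
    · rw [hreal g hg]
  have hD : ∀ g, (θ g - θc g) * conj (θ g - θc g) =
      2 + 2 * ∑ j, ψ j g - 2 * ∑ k, φ k g - θ g - θc g := by
    intro g
    rw [hconj, map_sub, Complex.conj_conj]
    have e1 := h1 g
    have e2 := h2 g
    have e3 := hΦ g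
    linear_combination 2 * e1 - 2 * e2 + e3
  -- degrees
  have hθ1 : θ 1 = 2 * (a : ℂ) + 1 := by rw [hdeg]; push_cast; ring
  have hθcdeg : θc 1 = ((2 * a + 1 : ℕ) : ℂ) := by rw [hconj, hdeg, Complex.conj_natCast]
  have hθc1 : θc 1 = 2 * (a : ℂ) + 1 := by rw [hθcdeg]; push_cast; ring
  have hf0 : (2 * (a : ℂ) + 1) ≠ 0 := by
    have h : ((2 * a + 1 : ℕ) : ℂ) ≠ 0 := Nat.cast_ne_zero.mpr (by omega)
    intro h0; apply h; push_cast; exact h0
  have ha0 : ((a : ℂ) + 1) ≠ 0 := by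
    have h : ((a + 1 : ℕ) : ℂ) ≠ 0 := Nat.cast_ne_zero.mpr (by omega)
    intro h0; apply h; push_cast; exact h0
  have hdeg_ne : ∀ (A B : G → ℂ) (m m' : ℕ), A 1 = (m : ℂ) → B 1 = (m' : ℂ) → m ≠ m' →
      A ≠ B := by
    intro A B m m' hA hB hmm h
    rw [h, hB] at hA
    exact hmm (by exact_mod_cast hA.symm)
  have honedeg : (fun _ : G => (1 : ℂ)) 1 = ((1 : ℕ) : ℂ) := by simp
  have n1 : ∀ j k, ψ j ≠ φ k := fun j k =>
    hdeg_ne _ _ _ _ (hψdeg j) (hφdeg k) (by omega)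
  have n2 : ∀ j, ψ j ≠ (fun _ : G => (1 : ℂ)) := fun j =>
    hdeg_ne _ _ _ _ (hψdeg j) honedeg (by omega)
  have n3 : ∀ j, ψ j ≠ θ := fun j => hdeg_ne _ _ _ _ (hψdeg j) hdeg (by omega)
  have n4 : ∀ j, ψ j ≠ θc := fun j => hdeg_ne _ _ _ _ (hψdeg j) hθcdeg (by omega)
  have n5 : ∀ k, φ k ≠ (fun _ : G => (1 : ℂ)) := fun k =>
    hdeg_ne _ _ _ _ (hφdeg k) honedeg (by omega)
  have n6 : ∀ k, φ k ≠ θ := fun k => hdeg_ne _ _ _ _ (hφdeg k) hdeg (by omega)
  have n7 : ∀ k, φ k ≠ θc := fun k => hdeg_ne _ _ _ _ (hφdeg k) hθcdeg (by omega)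
  have n8 : (fun _ : G => (1 : ℂ)) ≠ θ := hdeg_ne _ _ _ _ honedeg hdeg (by omega)
  have n9 : (fun _ : G => (1 : ℂ)) ≠ θc := hdeg_ne _ _ _ _ honedeg hθcdeg (by omega)
  -- convolution of `δ`
  have hcvδ : ∀ g, cv (fun y => θ y - θc y) (fun y => θ y - θc y) g =
      (n : ℂ) * (θ g + θc g) / (2 * (a : ℂ) + 1) := by
    intro g
    have e : cv (fun y => θ y - θc y) (fun y => θ y - θc y) g =
        cv θ θ g - cv θ θc g - cv θc θ g + cv θc θc g := by
      unfold cv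
      rw [← Finset.sum_sub_distrib, ← Finset.sum_sub_distrib, ← Finset.sum_add_distrib]
      refine Finset.sum_congr rfl fun y _ => by ring
    rw [e, cv_irr' hθ hθ, cv_irr' hθ hθc, cv_irr' hθc hθ, cv_irr' hθc hθc, if_pos rfl,
      if_neg hne, if_neg (Ne.symm hne), if_pos rfl, hθ1, hθc1]
    ring
  -- the family of characters occurring in `|δ|²`
  obtain ⟨X, hXdef⟩ : ∃ X : (Fin a ⊕ Fin a ⊕ Unit ⊕ Unit ⊕ Unit) → G → ℂ,
      X = Sum.elim ψ (Sum.elim φ (Sum.elim (fun _ _ => (1 : ℂ))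
        (Sum.elim (fun _ => θ) (fun _ => θc)))) := ⟨_, rfl⟩
  obtain ⟨c, hcdef⟩ : ∃ c : (Fin a ⊕ Fin a ⊕ Unit ⊕ Unit ⊕ Unit) → ℂ,
      c = Sum.elim (fun _ => 2) (Sum.elim (fun _ => -2) (Sum.elim (fun _ => 2)
        (Sum.elim (fun _ => -1) (fun _ => -1)))) := ⟨_, rfl⟩
  have hX : ∀ i, IsIrrCharacter G (X i) := by
    rw [hXdef]
    rintro (j | k | u | u | u)
    · exact hψ j
    · exact hφ k
    · exact hone
    · exact hθ
    · exact hθc
  have hXinj : Function.Injective X := by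
    rw [hXdef]
    rintro (j | k | u | u | u) (j' | k' | u' | u' | u') h <;>
      simp only [Sum.elim_inl, Sum.elim_inr] at h
    · rw [hψinj h]
    · exact absurd h (n1 _ _)
    · exact absurd h (n2 _)
    · exact absurd h (n3 _)
    · exact absurd h (n4 _)
    · exact absurd h.symm (n1 _ _)
    · rw [hφinj h]
    · exact absurd h (n5 _)
    · exact absurd h (n6 _)
    · exact absurd h (n7 _)
    · exact absurd h.symm (n2 _)
    · exact absurd h.symm (n5 _)
    · rfl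
    · exact absurd h n8
    · exact absurd h n9
    · exact absurd h.symm (n3 _)
    · exact absurd h.symm (n6 _)
    · exact absurd h.symm n8
    · rfl
    · exact absurd h hne
    · exact absurd h.symm (n4 _)
    · exact absurd h.symm (n7 _)
    · exact absurd h.symm n9
    · exact absurd h.symm hne
    · rfl
  have hsumX : ∀ F : (Fin a ⊕ Fin a ⊕ Unit ⊕ Unit ⊕ Unit) → ℂ,
      ∑ i, F i = ∑ j, F (Sum.inl j) + (∑ k, F (Sum.inr (Sum.inl k)) +
        (F (Sum.inr (Sum.inr (Sum.inl ()))) + (F (Sum.inr (Sum.inr (Sum.inr (Sum.inl ())))) +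
          F (Sum.inr (Sum.inr (Sum.inr (Sum.inr ()))))))) := by
    intro F
    simp [Fintype.sum_sum_type]
  have hDX : ∀ y, (θ y - θc y) * conj (θ y - θc y) = ∑ i, c i * X i y := by
    intro y
    rw [hD, hsumX, hcdef, hXdef]
    simp only [Sum.elim_inl, Sum.elim_inr]
    rw [← Finset.mul_sum, ← Finset.mul_sum]
    ring
  have hcvD : ∀ g, cv (fun y => (θ y - θc y) * conj (θ y - θc y))
      (fun y => (θ y - θc y) * conj (θ y - θc y)) g =
      (n : ℂ) * (4 + (∑ j, ψ j g) / ((a : ℂ) + 1) + 2 * (∑ k, φ k g) / (2 * (a : ℂ) + 1) +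
        (θ g + θc g) / (2 * (a : ℂ) + 1)) := by
    intro g
    have e := cv_family c X hX hXinj g
    have hfun : (fun y => ∑ i, c i * X i y) = (fun y => (θ y - θc y) * conj (θ y - θc y)) :=
      funext (fun y => (hDX y).symm)
    rw [hfun, hsumX, ← hn] at e
    rw [e, hcdef, hXdef]
    simp only [Sum.elim_inl, Sum.elim_inr]
    have eψ : ∀ j, (2 : ℂ) ^ 2 * ((n : ℂ) * ψ j g / ψ j 1) =
        ((n : ℂ) / ((a : ℂ) + 1)) * ψ j g := by
      intro j
      have e44 : ((4 * a + 4 : ℕ) : ℂ) = 4 * ((a : ℂ) + 1) := by push_cast; ring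
      rw [hψdeg, e44]
      field_simp
      ring
    have eφ : ∀ k, (-2 : ℂ) ^ 2 * ((n : ℂ) * φ k g / φ k 1) =
        (2 * (n : ℂ) / (2 * (a : ℂ) + 1)) * φ k g := by
      intro k
      have e42 : ((4 * a + 2 : ℕ) : ℂ) = 2 * (2 * (a : ℂ) + 1) := by push_cast; ring
      rw [hφdeg, e42]
      field_simp
    simp only [eψ, eφ, ← Finset.mul_sum, hθ1, hθc1]
    field_simp
    ring
  -- the triangle inequality
  have hineq : ∀ g, ((4 * a + 3 : ℕ) : ℝ) *
      ‖cv (fun y => θ y - θc y) (fun y => θ y - θc y) g‖ ≤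
      (cv (fun y => (θ y - θc y) * conj (θ y - θc y))
        (fun y => (θ y - θc y) * conj (θ y - θc y)) g).re := by
    intro g
    have hd01 : ∀ y, ‖θ y - θc y‖ ^ 2 = 0 ∨ ‖θ y - θc y‖ ^ 2 = ((4 * a + 3 : ℕ) : ℝ) := by
      intro y
      by_cases hy : y ∈ S
      · right; rw [← Complex.normSq_eq_norm_sq]; exact hdS y hy
      · left; rw [hdzero y hy, sub_self, norm_zero]; simp
    have hre : (cv (fun y => (θ y - θc y) * conj (θ y - θc y))
        (fun y => (θ y - θc y) * conj (θ y - θc y)) g).re =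
        ∑ y, ‖θ y - θc y‖ ^ 2 * ‖θ (y⁻¹ * g) - θc (y⁻¹ * g)‖ ^ 2 := by
      unfold cv
      simp only [hd, Complex.normSq_eq_norm_sq]
      rw [← Complex.ofReal_re (∑ y, ‖θ y - θc y‖ ^ 2 * ‖θ (y⁻¹ * g) - θc (y⁻¹ * g)‖ ^ 2)]
      congr 1
      push_cast
      rfl
    rw [hre]
    calc ((4 * a + 3 : ℕ) : ℝ) * ‖cv (fun y => θ y - θc y) (fun y => θ y - θc y) g‖
        ≤ ((4 * a + 3 : ℕ) : ℝ) * ∑ y, ‖θ y - θc y‖ * ‖θ (y⁻¹ * g) - θc (y⁻¹ * g)‖ := by
          apply mul_le_mul_of_nonneg_left _ (Nat.cast_nonneg _)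
          unfold cv
          refine (norm_sum_le _ _).trans ?_
          exact le_of_eq (Finset.sum_congr rfl fun y _ => norm_mul _ _)
      _ = ∑ y, ((4 * a + 3 : ℕ) : ℝ) * (‖θ y - θc y‖ * ‖θ (y⁻¹ * g) - θc (y⁻¹ * g)‖) :=
          Finset.mul_sum _ _ _
      _ ≤ ∑ y, ‖θ y - θc y‖ ^ 2 * ‖θ (y⁻¹ * g) - θc (y⁻¹ * g)‖ ^ 2 :=
          Finset.sum_le_sum fun y _ =>
            aux_real _ _ _ (Nat.cast_nonneg _) (norm_nonneg _) (norm_nonneg _) (hd01 y)
              (hd01 (y⁻¹ * g))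
  -- real parameters
  have hA1 : (1 : ℝ) ≤ (a : ℝ) := by exact_mod_cast ha
  have hN : (0 : ℝ) < (n : ℝ) := by exact_mod_cast hnpos
  have hnorm_θ : ∀ g, ‖θ g‖ ≤ 2 * (a : ℝ) + 1 := by
    intro g
    have h := IsIrrCharacter.norm_le hθ g
    rw [hθ1] at h
    have e : ‖(2 * (a : ℂ) + 1)‖ = 2 * (a : ℝ) + 1 := by
      have e0 : (2 * (a : ℂ) + 1) = ((2 * (a : ℝ) + 1 : ℝ) : ℂ) := by push_cast; ring
      rw [e0, Complex.norm_real, Real.norm_eq_abs, abs_of_nonneg (by positivity)]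
    rw [e] at h; exact h
  have hnorm_φ : ∀ g, ‖∑ k, φ k g‖ ≤ (a : ℝ) * (4 * (a : ℝ) + 2) := by
    intro g
    calc ‖∑ k, φ k g‖ ≤ ∑ k, ‖φ k g‖ := norm_sum_le _ _
      _ ≤ ∑ _k : Fin a, (4 * (a : ℝ) + 2) := by
          apply Finset.sum_le_sum
          intro k _
          have h := IsIrrCharacter.norm_le (hφ k) g
          rw [hφdeg] at h
          have e : ‖(((4 * a + 2 : ℕ) : ℂ))‖ = 4 * (a : ℝ) + 2 := by
            rw [Complex.norm_natCast]; push_cast; ring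
          rw [e] at h; exact h
      _ = (a : ℝ) * (4 * (a : ℝ) + 2) := by
          rw [Finset.sum_const, Finset.card_univ, Fintype.card_fin, nsmul_eq_mul]
  have hsmall : ∀ g, g ∉ S → g ≠ 1 → Complex.normSq (θ g) ≤ 1 := by
    intro g hgS hg1
    have hr : conj (θ g) = θ g := hreal g hgS
    obtain ⟨t, ht⟩ : ∃ t : ℝ, θ g = (t : ℂ) :=
      ⟨(θ g).re, (Complex.conj_eq_iff_re.mp hr).symm⟩
    have htc : θc g = (t : ℂ) := by rw [hconj, hr, ht]
    have hΨ : ∑ j, ψ j g = (t : ℂ) ^ 2 - 1 := by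
      have h := h1 g
      rw [hr, ht] at h
      linear_combination -h
    have hΦg : ∑ k, φ k g = (t : ℂ) ^ 2 - t := by
      have h := h2 g
      rw [hr, ht] at h
      linear_combination -h
    have hI := hineq g
    rw [hcvδ, hcvD, ht, htc, hΨ, hΦg] at hI
    have e1 : (n : ℂ) * ((t : ℂ) + t) / (2 * (a : ℂ) + 1) =
        (((n : ℝ) * (2 * t) / (2 * a + 1) : ℝ) : ℂ) := by push_cast; ring
    have e2 : (n : ℂ) * (4 + ((t : ℂ) ^ 2 - 1) / ((a : ℂ) + 1) +
        2 * ((t : ℂ) ^ 2 - t) / (2 * (a : ℂ) + 1) + ((t : ℂ) + t) / (2 * (a : ℂ) + 1)) =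
        (((n : ℝ) * (4 + (t ^ 2 - 1) / (a + 1) + 2 * t ^ 2 / (2 * a + 1)) : ℝ) : ℂ) := by
      push_cast; ring
    rw [e1, e2, Complex.norm_real, Complex.ofReal_re] at hI
    have hp1 : (0 : ℝ) < (a : ℝ) + 1 := by linarith
    have hp2 : (0 : ℝ) < 2 * (a : ℝ) + 1 := by linarith
    have e3 : ‖(n : ℝ) * (2 * t) / (2 * a + 1)‖ = (n : ℝ) * (2 * |t|) / (2 * a + 1) := by
      rw [Real.norm_eq_abs, abs_div, abs_mul, abs_mul, abs_of_pos hN, abs_of_pos hp2]
      simp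
    rw [e3] at hI
    push_cast at hI
    have h' : (4 * (a : ℝ) + 3) * (2 * |t|) * ((a : ℝ) + 1) ≤
        4 * ((a : ℝ) + 1) * (2 * a + 1) + (t ^ 2 - 1) * (2 * a + 1) +
          2 * t ^ 2 * ((a : ℝ) + 1) := by
      have eq1 : (4 * (a : ℝ) + 3) * ((n : ℝ) * (2 * |t|) / (2 * a + 1)) =
          (n : ℝ) * ((4 * (a : ℝ) + 3) * (2 * |t|) * ((a : ℝ) + 1)) /
            (((a : ℝ) + 1) * (2 * a + 1)) := by
        field_simp
      have eq2 : (n : ℝ) * (4 + (t ^ 2 - 1) / (a + 1) + 2 * t ^ 2 / (2 * a + 1)) =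
          (n : ℝ) * (4 * ((a : ℝ) + 1) * (2 * a + 1) + (t ^ 2 - 1) * (2 * a + 1) +
            2 * t ^ 2 * ((a : ℝ) + 1)) / (((a : ℝ) + 1) * (2 * a + 1)) := by
        field_simp
      rw [eq1, eq2] at hI
      have h3 := (div_le_div_iff_of_pos_right (mul_pos hp1 hp2)).mp hI
      exact le_of_mul_le_mul_left h3 hN
    have hs2 : t ^ 2 = |t| ^ 2 := (sq_abs t).symm
    have hkey : 0 ≤ (|t| - 1) * (|t| - (2 * (a : ℝ) + 1)) := by
      rw [hs2] at h'
      have e4 : (4 * (a : ℝ) + 3) * ((|t| - 1) * (|t| - (2 * (a : ℝ) + 1))) =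
          (4 * ((a : ℝ) + 1) * (2 * a + 1) + (|t| ^ 2 - 1) * (2 * a + 1) +
            2 * |t| ^ 2 * ((a : ℝ) + 1)) - (4 * (a : ℝ) + 3) * (2 * |t|) * ((a : ℝ) + 1) := by
        ring
      have h4 : 0 ≤ (4 * (a : ℝ) + 3) * ((|t| - 1) * (|t| - (2 * (a : ℝ) + 1))) := by
        rw [e4]; linarith
      exact nonneg_of_mul_nonneg_right h4 (by linarith)
    have hns : Complex.normSq (θ g) = t ^ 2 := by rw [ht, Complex.normSq_ofReal]; ring
    rw [hns]
    by_contra hgt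
    have hgt' : 1 < t ^ 2 := lt_of_not_ge hgt
    have hs1 : 1 < |t| := by
      by_contra h
      have h0 : |t| ≤ 1 := le_of_not_gt h
      have h5 : |t| ^ 2 ≤ 1 := by nlinarith [abs_nonneg t]
      rw [← hs2] at h5; linarith
    have hs3 : 2 * (a : ℝ) + 1 ≤ |t| := by
      by_contra h
      have h0 : |t| < 2 * (a : ℝ) + 1 := lt_of_not_ge h
      nlinarith [hkey]
    have hs4 : |t| ≤ 2 * (a : ℝ) + 1 := by
      have h := hnorm_θ g
      rw [ht, Complex.norm_real, Real.norm_eq_abs] at h; exact h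
    have hs5 : |t| = 2 * (a : ℝ) + 1 := le_antisymm hs4 hs3
    rcases (abs_eq (by linarith : (0 : ℝ) ≤ 2 * (a : ℝ) + 1)).mp hs5 with h | h
    · apply hg1
      apply hfaith
      rw [ht, hθ1, h]; push_cast; ring
    · have hb := hnorm_φ g
      rw [hΦg, h] at hb
      have e : ((-(2 * (a : ℝ) + 1) : ℝ) : ℂ) ^ 2 - ((-(2 * (a : ℝ) + 1) : ℝ) : ℂ) =
          (((2 * (a : ℝ) + 1) ^ 2 + (2 * (a : ℝ) + 1) : ℝ) : ℂ) := by push_cast; ring
      rw [e, Complex.norm_real, Real.norm_eq_abs, abs_of_nonneg (by positivity)] at hb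
      nlinarith
  -- moments
  have hm2 : ∑ g, Complex.normSq (θ g) = (n : ℝ) := by
    have h := ortho' hθ hθ
    rw [if_pos rfl] at h
    simp only [Complex.mul_conj] at h
    exact_mod_cast h
  have hm4 : ∑ g, Complex.normSq (θ g) ^ 2 = (n : ℝ) * ((a : ℝ) + 1) := by
    obtain ⟨Y, hYdef⟩ : ∃ Y : Option (Fin a) → G → ℂ,
        Y = fun o => Option.elim o (fun _ => (1 : ℂ)) ψ := ⟨_, rfl⟩
    have hY : ∀ i, IsIrrCharacter G (Y i) := by
      rw [hYdef]
      rintro (_ | j)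
      · exact hone
      · exact hψ j
    have hYinj : Function.Injective Y := by
      rw [hYdef]
      rintro (_ | j) (_ | j') h <;> simp only [Option.elim] at h
      · rfl
      · exact absurd h.symm (n2 j')
      · exact absurd h (n2 j)
      · rw [hψinj h]
    have e := ortho_family (fun _ => (1 : ℂ)) Y hY hYinj
    have e2 : ∀ g, (∑ i : Option (Fin a), (1 : ℂ) * Y i g) = θ g * conj (θ g) := by
      intro g
      rw [h1, Fintype.sum_option, hYdef]
      simp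
    have e3 : ∀ g, (θ g * conj (θ g)) * conj (θ g * conj (θ g)) =
        ((Complex.normSq (θ g) ^ 2 : ℝ) : ℂ) := by
      intro g
      rw [Complex.mul_conj, map_mul, Complex.normSq_conj, sq]
    have e4 : (∑ _i : Option (Fin a), (1 : ℂ) * conj (1 : ℂ)) = (a : ℂ) + 1 := by simp
    simp only [e2, e3] at e
    rw [e4, ← hn] at e
    exact_mod_cast e
  have h1S : (1 : G) ∉ S := by
    intro h
    have e := hS2 1 h
    rw [hdeg, Complex.conj_natCast] at e
    have e' : (2 * a + 1) * (2 * a + 1) = a + 1 := by exact_mod_cast e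
    nlinarith
  have hsum : ∑ g, (Complex.normSq (θ g) ^ 2 - Complex.normSq (θ g)) = (n : ℝ) * (a : ℝ) := by
    rw [Finset.sum_sub_distrib, hm4, hm2]; ring
  have hsplit := Finset.sum_add_sum_compl S
    (fun g => Complex.normSq (θ g) ^ 2 - Complex.normSq (θ g))
  have hSval : ∀ g ∈ S, Complex.normSq (θ g) ^ 2 - Complex.normSq (θ g) =
      (a : ℝ) * ((a : ℝ) + 1) := by
    intro g hg
    have e := hS2 g hg
    rw [Complex.mul_conj] at e
    have e' : Complex.normSq (θ g) = (a : ℝ) + 1 := by exact_mod_cast e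
    rw [e']; ring
  have hcompl : ∑ g ∈ Sᶜ, (Complex.normSq (θ g) ^ 2 - Complex.normSq (θ g)) ≤
      (2 * (a : ℝ) + 1) ^ 4 - (2 * (a : ℝ) + 1) ^ 2 := by
    have hle : ∀ g ∈ Sᶜ, Complex.normSq (θ g) ^ 2 - Complex.normSq (θ g) ≤
        if g = 1 then (2 * (a : ℝ) + 1) ^ 4 - (2 * (a : ℝ) + 1) ^ 2 else 0 := by
      intro g hg
      by_cases hg1 : g = 1
      · rw [if_pos hg1, hg1, hθ1]
        have e0 : Complex.normSq (2 * (a : ℂ) + 1) = (2 * (a : ℝ) + 1) ^ 2 := by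
          have e00 : (2 * (a : ℂ) + 1) = ((2 * (a : ℝ) + 1 : ℝ) : ℂ) := by push_cast; ring
          rw [e00, Complex.normSq_ofReal]; ring
        rw [e0]; apply le_of_eq; ring
      · rw [if_neg hg1]
        have h := hsmall g (Finset.mem_compl.mp hg) hg1
        have h0 := Complex.normSq_nonneg (θ g)
        nlinarith
    refine (Finset.sum_le_sum hle).trans ?_
    rw [Finset.sum_ite_eq']
    split_ifs
    · exact le_refl _
    · have h9 : (0 : ℝ) ≤ (2 * (a : ℝ) + 1) ^ 2 - 1 := by nlinarith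
      have h10 : (2 * (a : ℝ) + 1) ^ 4 - (2 * (a : ℝ) + 1) ^ 2 =
          (2 * (a : ℝ) + 1) ^ 2 * ((2 * (a : ℝ) + 1) ^ 2 - 1) := by ring
      rw [h10]
      exact mul_nonneg (sq_nonneg _) h9
  rw [hsum, Finset.sum_congr rfl hSval, Finset.sum_const, nsmul_eq_mul] at hsplit
  have hS' : (S.card : ℝ) * (4 * (a : ℝ) + 3) = 2 * (n : ℝ) := by exact_mod_cast hS
  have hfin : (n : ℝ) * a ≤ (S.card : ℝ) * ((a : ℝ) * ((a : ℝ) + 1)) +
      ((2 * (a : ℝ) + 1) ^ 4 - (2 * (a : ℝ) + 1) ^ 2) := by linarith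
  have hfin2 : (n : ℝ) ≤ (4 * (a : ℝ) + 3) * (2 * a + 1) * (4 * a + 4) := by
    have h5 : (n : ℝ) * a * (4 * a + 3) ≤ 2 * (n : ℝ) * ((a : ℝ) * ((a : ℝ) + 1)) +
        (4 * (a : ℝ) + 3) * ((2 * (a : ℝ) + 1) ^ 4 - (2 * (a : ℝ) + 1) ^ 2) := by
      have h7 := mul_le_mul_of_nonneg_right hfin (by linarith : (0 : ℝ) ≤ 4 * (a : ℝ) + 3)
      have h8 : (S.card : ℝ) * ((a : ℝ) * ((a : ℝ) + 1)) * (4 * (a : ℝ) + 3) =
          2 * (n : ℝ) * ((a : ℝ) * ((a : ℝ) + 1)) := by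
        rw [← hS']; ring
      linarith
    have h6 : (n : ℝ) * ((a : ℝ) * (2 * a + 1)) ≤
        ((4 * (a : ℝ) + 3) * (2 * a + 1) * (4 * a + 4)) * ((a : ℝ) * (2 * a + 1)) := by
      linarith
    exact le_of_mul_le_mul_right h6 (by positivity)
  exact_mod_cast hfin2

end Cfsg.Agent.H39.PslCount
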