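import Mathlib
import Cfsg.Agent.H7.RVDefs
import Cfsg.Agent.H39.RVCommon

/-!
# RV-FIX (helper39, for helper7's S3626): the elements fixing a non-zero matrix
-/

set_option autoImplicit false

namespace Cfsg.Agent.H39.RV

open Matrix Cfsg.Agent.H7.RV

open scoped MatrixGroups

section aux

variable {F : Type} [Field F]

/-- The standard symplectic matrix. -/
def Jm : Matrix (Fin 2) (Fin 2) F := !![0, 1; -1, 0]

theorem tJ (A : Matrix (Fin 2) (Fin 2) F) : Aᵀ * Jm * A = A.det • Jm := by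
  ext i j
  fin_cases i <;> fin_cases j <;>
    simp [Jm, Matrix.mul_apply, Fin.sum_univ_two, Matrix.det_fin_two] <;> ring

theorem JJ : (Jm : Matrix (Fin 2) (Fin 2) F) * Jm = -1 := by
  ext i j
  fin_cases i <;> fin_cases j <;> simp [Jm, Matrix.mul_apply, Fin.sum_univ_two]

/-- Cayley–Hamilton for `2 × 2` matrices. -/
theorem ch2 (A : Matrix (Fin 2) (Fin 2) F) :
    A * A = (A 0 0 + A 1 1) • A - A.det • (1 : Matrix (Fin 2) (Fin 2) F) := by
  ext i j
  fin_cases i <;> fin_cases j <;>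
    simp [Matrix.mul_apply, Fin.sum_univ_two, Matrix.det_fin_two] <;> ring

theorem ch2' (A : Matrix (Fin 2) (Fin 2) F) (hA : A.det = 1) :
    A * A = (A 0 0 + A 1 1) • A - 1 := by
  rw [ch2 A, hA, one_smul]

theorem fix_aux (G G' X : Matrix (Fin 2) (Fin 2) F) (e : F) (hee : e * e = 1)
    (hdet : G.det = 1) (hdet' : G'.det = 1) (Ginv : Matrix (Fin 2) (Fin 2) F)
    (hinv : Ginv * G = 1) (hX : X ≠ 0) (hfix : e • (G * X * G'ᵀ) = X) :
    (G' 0 0 + G' 1 1) * e = G 0 0 + G 1 1 := by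
  have hY : X * Jm * G' = e • (G * (X * Jm)) := by
    calc X * Jm * G' = (e • (G * X * G'ᵀ)) * Jm * G' := by rw [hfix]
      _ = e • (G * X * (G'ᵀ * Jm * G')) := by simp only [Matrix.smul_mul, Matrix.mul_assoc]
      _ = e • (G * (X * Jm)) := by rw [tJ, hdet', one_smul, Matrix.mul_assoc]
  have hY2 : X * Jm * G' * G' = G * G * (X * Jm) := by
    calc X * Jm * G' * G' = (e • (G * (X * Jm))) * G' := by rw [hY]
      _ = e • (G * (X * Jm * G')) := by simp only [Matrix.smul_mul, Matrix.mul_assoc]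
      _ = e • (G * (e • (G * (X * Jm)))) := by rw [hY]
      _ = (e * e) • (G * G * (X * Jm)) := by
        simp only [Matrix.mul_smul, smul_smul, Matrix.mul_assoc]
      _ = G * G * (X * Jm) := by rw [hee, one_smul]
  have c1 := ch2' G hdet
  have c2 := ch2' G' hdet'
  have key : ((G' 0 0 + G' 1 1) * e - (G 0 0 + G 1 1)) • (G * (X * Jm)) = 0 := by
    have h1 : X * Jm * G' * G' = (G' 0 0 + G' 1 1) • (e • (G * (X * Jm))) - X * Jm := by
      rw [Matrix.mul_assoc, c2, Matrix.mul_sub, Matrix.mul_smul, Matrix.mul_one, hY]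
    have h2 : G * G * (X * Jm) = (G 0 0 + G 1 1) • (G * (X * Jm)) - X * Jm := by
      rw [c1, Matrix.sub_mul, Matrix.smul_mul, Matrix.one_mul]
    rw [h1, h2] at hY2
    have h3 := sub_left_injective hY2
    rw [sub_smul, mul_smul, h3, sub_self]
  have hGY : G * (X * Jm) ≠ 0 := by
    intro h0
    apply hX
    have hY0 : X * Jm = 0 := by
      calc X * Jm = Ginv * G * (X * Jm) := by rw [hinv, Matrix.one_mul]
        _ = Ginv * (G * (X * Jm)) := by rw [Matrix.mul_assoc]
        _ = 0 := by rw [h0, Matrix.mul_zero]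
    calc X = -(X * Jm * Jm) := by
          rw [Matrix.mul_assoc, JJ, Matrix.mul_neg, Matrix.mul_one, neg_neg]
      _ = 0 := by rw [hY0, Matrix.zero_mul, neg_zero]
  rcases smul_eq_zero.1 key with h | h
  · linear_combination h
  · exact absurd h hGY

theorem sq_of_tr0 (g : SL(2, F)) (h : g 0 0 + g 1 1 = 0) : g ^ 2 = -1 := by
  apply Subtype.ext
  have c1 := ch2' (g : Matrix (Fin 2) (Fin 2) F) g.det_coe
  rw [h, zero_smul, zero_sub] at c1
  rw [Matrix.SpecialLinearGroup.coe_pow, Matrix.SpecialLinearGroup.coe_neg,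
    Matrix.SpecialLinearGroup.coe_one, pow_two, c1]

theorem cube_of_tr1 (g : SL(2, F)) (h : g 0 0 + g 1 1 = 1) : g ^ 3 = -1 := by
  apply Subtype.ext
  have c1 := ch2' (g : Matrix (Fin 2) (Fin 2) F) g.det_coe
  rw [h, one_smul] at c1
  rw [Matrix.SpecialLinearGroup.coe_pow, Matrix.SpecialLinearGroup.coe_neg,
    Matrix.SpecialLinearGroup.coe_one, pow_succ, pow_two, c1, Matrix.sub_mul, Matrix.one_mul, c1]
  abel

theorem cube_of_trm1 (g : SL(2, F)) (h : g 0 0 + g 1 1 = -1) : g ^ 3 = 1 := by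
  apply Subtype.ext
  have c1 := ch2' (g : Matrix (Fin 2) (Fin 2) F) g.det_coe
  rw [h, neg_smul, one_smul] at c1
  rw [Matrix.SpecialLinearGroup.coe_pow, Matrix.SpecialLinearGroup.coe_one, pow_succ, pow_two,
    c1, Matrix.sub_mul, Matrix.neg_mul, Matrix.one_mul, c1]
  abel

end aux

theorem card_mod_four (m : ℕ) : 3 ^ (2 * m + 1) % 4 = 3 := by
  induction m with
  | zero => norm_num
  | succ k ih =>
    have : 3 ^ (2 * (k + 1) + 1) = 3 ^ (2 * k + 1) * 9 := by ring
    rw [this, Nat.mul_mod, ih]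

theorem fix : StFix := by
  intro F _ _ _ m hcard p X hX hfix
  have hnsq : ¬ IsSquare (-1 : F) := by
    rw [FiniteField.isSquare_neg_one_iff, hcard, card_mod_four]
    simp
  rw [actFun_def, ← Int.cast_smul_eq_zsmul F] at hfix
  have hinv : ((p.2⁻¹ : SL(2, F)) : Matrix (Fin 2) (Fin 2) F) *
      (p.2 : Matrix (Fin 2) (Fin 2) F) = 1 := by
    rw [← Matrix.SpecialLinearGroup.coe_mul, inv_mul_cancel, Matrix.SpecialLinearGroup.coe_one]
  have hee : ((((p.1 : ℤˣ) : ℤ)) : F) * ((((p.1 : ℤˣ) : ℤ)) : F) = 1 := by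
    rcases sign_cases (F := F) p.1 with ⟨-, h⟩ | ⟨-, h⟩ <;> rw [h] <;> norm_num
  have haux := fix_aux (p.2 : Matrix (Fin 2) (Fin 2) F)
    ((tw F p.2 : SL(2, F)) : Matrix (Fin 2) (Fin 2) F) X _ hee p.2.det_coe (tw F p.2).det_coe _
    hinv hX hfix
  rw [tw_apply, tw_apply] at haux
  have h3 : (3 : F) = 0 := three_eq_zero_char3
  have hcube : p.2 0 0 ^ 3 + p.2 1 1 ^ 3 = (p.2 0 0 + p.2 1 1) ^ 3 := by
    linear_combination (-(p.2 0 0 ^ 2 * p.2 1 1) - p.2 0 0 * p.2 1 1 ^ 2) * h3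
  rw [hcube] at haux
  rcases sign_cases (F := F) p.1 with ⟨h1, h1'⟩ | ⟨h1, h1'⟩
  · rw [h1', mul_one] at haux
    have hfac : (p.2 0 0 + p.2 1 1) * ((p.2 0 0 + p.2 1 1 - 1) * (p.2 0 0 + p.2 1 1 + 1)) = 0 := by
      linear_combination haux
    rcases mul_eq_zero.1 hfac with h | h
    · left
      exact sq_of_tr0 p.2 h
    · right
      refine ⟨h1, ?_⟩
      rcases mul_eq_zero.1 h with h' | h'
      · right
        exact cube_of_tr1 p.2 (by linear_combination h')
      · left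
        exact cube_of_trm1 p.2 (by linear_combination h')
  · rw [h1'] at haux
    have hfac : (p.2 0 0 + p.2 1 1) * ((p.2 0 0 + p.2 1 1) ^ 2 + 1) = 0 := by
      linear_combination -haux
    rcases mul_eq_zero.1 hfac with h | h
    · left
      exact sq_of_tr0 p.2 h
    · exfalso
      apply hnsq
      exact ⟨p.2 0 0 + p.2 1 1, by linear_combination -h⟩

example : StFix := fix

end Cfsg.Agent.H39.RV
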