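import Mathlib
import Cfsg.Agent.H7.RVDefs
import Cfsg.Agent.H39.RVCommon
import Cfsg.Agent.H39.RVFix

/-!
# RV-TRI (helper39, for helper7's S3626): every element of `SL₂(q)`, `q = 3^(2m+1)`, has cube
`±1` or order dividing `q - 1` or `q + 1`
-/

set_option autoImplicit false

namespace Cfsg.Agent.H39.RV

open Matrix Cfsg.Agent.H7.RV

open scoped MatrixGroups

theorem tri : StTri := by
  intro F _ _ _ m hcard g
  have h3 : (3 : F) = 0 := three_eq_zero_char3
  obtain ⟨A, hA⟩ : ∃ A : Matrix (Fin 2) (Fin 2) F, A = (g : Matrix (Fin 2) (Fin 2) F) :=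
    ⟨_, rfl⟩
  obtain ⟨τ, hτ⟩ : ∃ τ : F, τ = g 0 0 + g 1 1 := ⟨_, rfl⟩
  have c1 : A * A = τ • A - 1 := by
    rw [hA, hτ]
    exact ch2' (g : Matrix (Fin 2) (Fin 2) F) g.det_coe
  by_cases hδ : τ ^ 2 - 1 = 0
  · have hfac : (τ - 1) * (τ + 1) = 0 := by linear_combination hδ
    rcases mul_eq_zero.1 hfac with h | h
    · right; left
      exact cube_of_tr1 g (by rw [← hτ]; linear_combination h)
    · left
      exact cube_of_trm1 g (by rw [← hτ]; linear_combination h)
  · right; right
    have h3τ : τ + τ + τ = 0 := by linear_combination τ * h3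
    have hNN : (A + τ • (1 : Matrix (Fin 2) (Fin 2) F)) * (A + τ • (1 : Matrix (Fin 2) (Fin 2) F)) =
        (τ ^ 2 - 1) • (1 : Matrix (Fin 2) (Fin 2) F) := by
      have e1 : (A + τ • (1 : Matrix (Fin 2) (Fin 2) F)) * (A + τ • (1 : Matrix (Fin 2) (Fin 2) F)) =
          A * A + (τ + τ) • A + (τ * τ) • (1 : Matrix (Fin 2) (Fin 2) F) := by
        simp only [Matrix.add_mul, Matrix.mul_add, Matrix.mul_smul, Matrix.smul_mul,
          Matrix.mul_one, Matrix.one_mul, smul_smul]
        module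
      have e2 : τ • A - 1 + (τ + τ) • A + (τ * τ) • (1 : Matrix (Fin 2) (Fin 2) F) =
          (τ + τ + τ) • A + (τ ^ 2 - 1) • (1 : Matrix (Fin 2) (Fin 2) F) := by module
      rw [e1, c1, e2, h3τ, zero_smul, zero_add]
    -- `q` is odd
    obtain ⟨k, hk⟩ : Odd (3 ^ (2 * m + 1)) := Odd.pow (by decide)
    have hNq : (A + τ • (1 : Matrix (Fin 2) (Fin 2) F)) ^ (3 ^ (2 * m + 1)) =
        ((τ ^ 2 - 1) ^ k) • (A + τ • (1 : Matrix (Fin 2) (Fin 2) F)) := by
      rw [hk, pow_succ, pow_mul, pow_two, hNN, smul_pow, one_pow, Matrix.smul_mul, Matrix.one_mul]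
    -- Frobenius
    have hfrob : A ^ (3 ^ (2 * m + 1)) =
        (A + τ • (1 : Matrix (Fin 2) (Fin 2) F)) ^ (3 ^ (2 * m + 1)) -
          τ • (1 : Matrix (Fin 2) (Fin 2) F) := by
      have hcomm : Commute (A + τ • (1 : Matrix (Fin 2) (Fin 2) F))
          (τ • (1 : Matrix (Fin 2) (Fin 2) F)) :=
        Commute.smul_right (Commute.one_right _) τ
      have h := sub_pow_char_pow_of_commute (p := 3) (n := 2 * m + 1) hcomm
      rw [add_sub_cancel_right] at h
      rw [h, smul_pow, one_pow, ← hcard, FiniteField.pow_card]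
    rw [hNq] at hfrob
    have hdich := FiniteField.pow_dichotomy (F := F) (by rw [ringChar.eq F 3]; norm_num) hδ
    have hk2 : Fintype.card F / 2 = k := by rw [hcard, hk]; omega
    rw [hk2] at hdich
    have hq1 : 1 ≤ 3 ^ (2 * m + 1) := Nat.one_le_pow _ _ (by norm_num)
    rcases hdich with hd | hd
    · left
      rw [hd, one_smul, add_sub_cancel_right] at hfrob
      have hgq : g ^ (3 ^ (2 * m + 1)) = g := by
        apply Subtype.ext
        rw [Matrix.SpecialLinearGroup.coe_pow, ← hA]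
        exact hfrob
      have h1 : g ^ (3 ^ (2 * m + 1) - 1) * g = 1 * g := by
        rw [← pow_succ, Nat.sub_add_cancel hq1, hgq, one_mul]
      exact mul_right_cancel h1
    · right
      rw [hd] at hfrob
      have hτ' : -τ - τ = τ := by linear_combination (-τ) * h3
      have e3 : (-1 : F) • (A + τ • (1 : Matrix (Fin 2) (Fin 2) F)) -
          τ • (1 : Matrix (Fin 2) (Fin 2) F) = -A + (-τ - τ) • (1 : Matrix (Fin 2) (Fin 2) F) := by
        module
      rw [e3, hτ'] at hfrob
      apply Subtype.ext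
      rw [Matrix.SpecialLinearGroup.coe_pow, ← hA, Matrix.SpecialLinearGroup.coe_one, pow_succ,
        hfrob, Matrix.add_mul, Matrix.neg_mul, Matrix.smul_mul, Matrix.one_mul, c1]
      abel

example : StTri := tri

end Cfsg.Agent.H39.RV
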