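import Mathlib
import Cfsg.Agent.H52.SnDefs
import Cfsg.Agent.H14.Thompson

/-!
# SN-IFSYL (helper52, S2942): the Sylow 2-subgroup `T` of `L` and `J(T)`, inside `↥L`

`T.subgroupOf L` is a Sylow 2-subgroup of `↥L`, so it contains an elementary abelian 2-subgroup of
largest order of `↥L`, and `J(T)` (transported) lies in `J(↥L)` (helper14's Thompson library).
-/

set_option autoImplicit false

universe u

namespace Cfsg.Agent.H39.Sn

open Cfsg Cfsg.Agent.H52.Sn

/-- **SN-IFSYL**. -/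
theorem ifSyl : StIfSyl.{u} := by
  intro G _ _ T L hTL
  obtain ⟨hle, hp, hodd⟩ := hTL
  have h2 : Fact (Nat.Prime 2) := ⟨Nat.prime_two⟩
  have hp' : IsPGroup 2 ↥(T.subgroupOf L) := hp.comap_subtype
  have hodd' : Odd (T.subgroupOf L).index := hodd
  have hJT : thompsonSubgroupOf 2 T ≤ T := Cfsg.Agent.H14.thompsonSubgroupOf_le 2 T
  refine ⟨hp', hodd', Subgroup.comap_mono hJT, ?_⟩
  have hnd : ¬ 2 ∣ (T.subgroupOf L).index := fun h =>
    (Nat.not_even_iff_odd.mpr hodd') (even_iff_two_dvd.mpr h)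
  obtain ⟨A₀, hA₀, hA₀S⟩ := Cfsg.Agent.H14.exists_maxElAb_le_sylow (hp'.toSylow hnd)
  have hA₀T : A₀ ≤ T.subgroupOf L := hA₀S
  have h5 := Cfsg.Agent.H14.thompsonSubgroupOf_le_thompsonSubgroup (T.subgroupOf L)
    ⟨A₀, hA₀, hA₀T⟩
  have h6 := Cfsg.Agent.H14.thompsonSubgroupOf_map 2 L.subtype (T.subgroupOf L)
    (fun x _ hx => L.subtype_injective (by rw [hx, map_one]))
  rw [Subgroup.map_subgroupOf_eq_of_le hle] at h6
  rw [← h6, Subgroup.subgroupOf, Subgroup.comap_map_eq_self_of_injective L.subtype_injective]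
  exact h5

end Cfsg.Agent.H39.Sn

example : Cfsg.Agent.H52.Sn.StIfSyl.{u} := Cfsg.Agent.H39.Sn.ifSyl.{u}
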