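import Mathlib
import Cfsg.Agent.H19.SxDefs
import Cfsg.Agent.H82.JxDefs
import Cfsg.Agent.H51.JcNORM

/-!
SX-W (helper39, for helper19's EXIST project): bridge from helper82's `StW4`
(the JX chain) to helper19's `StW`.
-/

set_option autoImplicit false

namespace Cfsg.Agent.H39.Sx

open Cfsg

universe u

variable {X : Type u} [Group X]

theorem pCoreOf_eq_inf [Finite X] (K Q : Subgroup X) [Q.Normal] (hQ2 : IsPGroup 2 ↥Q)
    (hidx : (K ⊓ Q).relIndex K = 3) : pCoreOf 2 K = K ⊓ Q := by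
  have : Fact (Nat.Prime 2) := ⟨Nat.prime_two⟩
  have hP2 : IsPGroup 2 ↥(K ⊓ Q : Subgroup X) := hQ2.to_le inf_le_right
  have hnorm : K ≤ Subgroup.normalizer ((K ⊓ Q : Subgroup X) : Set X) :=
    Cfsg.Agent.H31.X.H54.le_normalizer_inf' Subgroup.le_normalizer
      Subgroup.le_normalizer_of_normal
  have h1 : K ⊓ Q ≤ pCoreOf 2 K := Cfsg.Agent.H31.X.H54.le_pCoreOf inf_le_left hnorm hP2
  have h2 : pCoreOf 2 K ≤ K := Cfsg.Agent.H31.X.H54.pCoreOf_le _
  have h4 := Subgroup.relIndex_mul_relIndex _ _ _ h1 h2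
  rw [hidx] at h4
  have h5 : (K ⊓ Q).relIndex (pCoreOf 2 K) ∣ 3 := Dvd.intro _ h4
  have hR2 : IsPGroup 2 ↥(pCoreOf 2 K) := Cfsg.Agent.H31.X.H54.isPGroup_pCoreOf _
  obtain ⟨n, hn⟩ := IsPGroup.iff_card.mp hR2
  have h6 : (K ⊓ Q).relIndex (pCoreOf 2 K) ∣ 2 ^ n := by
    rw [← hn]; exact Subgroup.relIndex_dvd_card _ _
  have hcop : Nat.Coprime (2 ^ n) 3 := Nat.Coprime.pow_left _ (by decide)
  have h7 : (K ⊓ Q).relIndex (pCoreOf 2 K) = 1 :=
    Nat.dvd_one.mp (hcop.gcd_eq_one ▸ Nat.dvd_gcd h6 h5)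
  exact le_antisymm (Subgroup.relIndex_eq_one.mp h7) h1

theorem exists_order_three (K Q : Subgroup X) [Q.Normal] (hQ2 : IsPGroup 2 ↥Q)
    (hidx : (K ⊓ Q).relIndex K = 3) (a x : X) (hxK : x ∈ K) (hxQ : x ∉ Q)
    (hax : a * x * a⁻¹ = x⁻¹) :
    ∃ y ∈ K, orderOf y = 3 ∧ y ∉ Q ∧ a * y * a⁻¹ = y⁻¹ := by
  have : Fact (Nat.Prime 3) := ⟨Nat.prime_three⟩
  have hx3 : x ^ 3 ∈ Q := by
    have h := Subgroup.pow_relIndex_mem Q hxK
    rwa [← Subgroup.inf_relIndex_left, hidx] at h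
  obtain ⟨j, hj⟩ := hQ2 ⟨x ^ 3, hx3⟩
  have hj' : (x ^ 3) ^ (2 ^ j) = 1 := by
    have := congrArg Subtype.val hj
    simpa using this
  obtain ⟨m, hm⟩ : ∃ m : ℕ, m = 2 ^ j := ⟨_, rfl⟩
  rw [← hm] at hj'
  have h3 : ¬ (3 ∣ m) := by
    intro h
    rw [hm] at h
    have := Nat.Prime.dvd_of_dvd_pow Nat.prime_three h
    omega
  have hr : m % 3 = 1 ∨ m % 3 = 2 := by omega
  have hm3 : m = 3 * (m / 3) + m % 3 := (Nat.div_add_mod m 3).symm
  have hnQ : x ^ m ∉ Q := by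
    intro hin
    have e : x ^ m = (x ^ 3) ^ (m / 3) * x ^ (m % 3) := by
      conv_lhs => rw [hm3, pow_add, pow_mul]
    have hq : (x ^ 3) ^ (m / 3) ∈ Q := Q.pow_mem hx3 _
    have hxr : x ^ (m % 3) ∈ Q := by
      have e2 : x ^ (m % 3) = ((x ^ 3) ^ (m / 3))⁻¹ * x ^ m := by rw [e]; group
      rw [e2]; exact Q.mul_mem (Q.inv_mem hq) hin
    rcases hr with hr | hr
    · rw [hr, pow_one] at hxr; exact hxQ hxr
    · rw [hr] at hxr
      have e3 : x = x ^ 3 * (x ^ 2)⁻¹ := by group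
      exact hxQ (e3 ▸ Q.mul_mem hx3 (Q.inv_mem hxr))
  refine ⟨x ^ m, K.pow_mem hxK _, ?_, hnQ, ?_⟩
  · apply orderOf_eq_prime
    · rw [← pow_mul, mul_comm, pow_mul]; exact hj'
    · intro h1; exact hnQ (h1 ▸ Q.one_mem)
  · rw [← conj_pow, hax, inv_pow]

theorem gen_of_index_three (K Q : Subgroup X) (hidx : (K ⊓ Q).relIndex K = 3) (y : X)
    (hyK : y ∈ K) (hyQ : y ∉ Q) : K = (K ⊓ Q) ⊔ Subgroup.zpowers y := by
  have hM : (K ⊓ Q) ⊔ Subgroup.zpowers y ≤ K :=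
    sup_le inf_le_left (by rw [Subgroup.zpowers_le]; exact hyK)
  have h4 := Subgroup.relIndex_mul_relIndex _ _ _
    (le_sup_left : K ⊓ Q ≤ (K ⊓ Q) ⊔ Subgroup.zpowers y) hM
  rw [hidx] at h4
  have h5 : (K ⊓ Q).relIndex ((K ⊓ Q) ⊔ Subgroup.zpowers y) ≠ 1 := by
    intro h
    have := Subgroup.relIndex_eq_one.mp h
    exact hyQ ((this (Subgroup.mem_sup_right (Subgroup.mem_zpowers y))).2)
  have h6 : (K ⊓ Q).relIndex ((K ⊓ Q) ⊔ Subgroup.zpowers y) ∣ 3 := Dvd.intro _ h4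
  rcases (Nat.dvd_prime Nat.prime_three).mp h6 with h | h
  · exact absurd h h5
  · rw [h] at h4
    have h7 : ((K ⊓ Q) ⊔ Subgroup.zpowers y).relIndex K = 1 := by omega
    exact le_antisymm (Subgroup.relIndex_eq_one.mp h7) hM

/-- Elements of `zpowers g` when `g ^ 3 = 1`. -/
theorem zpowers_three {H : Type*} [Group H] (g z : H) (hg : g ^ 3 = 1)
    (hz : z ∈ Subgroup.zpowers g) : z = 1 ∨ z = g ∨ z = g⁻¹ := by
  obtain ⟨n, rfl⟩ := Subgroup.mem_zpowers_iff.mp hz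
  have hn : n = 3 * (n / 3) + n % 3 := (Int.mul_ediv_add_emod n 3).symm
  have h0 : 0 ≤ n % 3 := Int.emod_nonneg n (by norm_num)
  have h3 : n % 3 < 3 := Int.emod_lt_of_pos n (by norm_num)
  have hg' : g ^ (3 : ℤ) = 1 := by exact_mod_cast hg
  have e : g ^ n = g ^ (n % 3) := by
    conv_lhs => rw [hn, zpow_add, zpow_mul, hg', one_zpow, one_mul]
  rw [e]
  obtain h | h | h : n % 3 = 0 ∨ n % 3 = 1 ∨ n % 3 = 2 := by omega
  · left; rw [h, zpow_zero]
  · right; left; rw [h, zpow_one]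
  · right; right; rw [h]
    have : g ^ (2 : ℤ) * g = 1 := by
      have : g ^ (2 : ℤ) * g = g ^ (3 : ℤ) := by group
      rw [this, hg']
    exact eq_inv_of_mul_eq_one_left this

theorem w_of_w4 (hW4 : Cfsg.Agent.H82.Jx.StW4.{u}) : Cfsg.Agent.H19.Sx.StW.{u} := by
  intro X _ _ V T Q J K A a x _ _ hV hVQ hQV _hVmax hT2 hQT hJT hAJ hAel hAmax hKJ hidx hQK hVK
    haA hxK hxQ hax
  have hQ2 : IsPGroup 2 ↥Q := hT2.to_le hQT
  have hJK : J ≤ Subgroup.normalizer (K : Set X) := Cfsg.Agent.H51.Jc.le_normalizer_of_comm hKJ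
  have hpc : pCoreOf 2 K = K ⊓ Q := pCoreOf_eq_inf K Q hQ2 hidx
  obtain ⟨y, hyK, hy3, hyQ, hay⟩ := exists_order_three K Q hQ2 hidx a x hxK hxQ hax
  have hKgen : K = (K ⊓ Q) ⊔ Subgroup.zpowers y := gen_of_index_three K Q hidx y hyK hyQ
  have hy31 : y ^ 3 = 1 := by rw [← hy3]; exact pow_orderOf_eq_one y
  -- the quotient by `Q`
  have hπ : ∀ g : X, QuotientGroup.mk' Q g = 1 ↔ g ∈ Q := fun g => QuotientGroup.eq_one_iff g
  have hg3 : (QuotientGroup.mk' Q y) ^ 3 = 1 := by rw [← map_pow, hy31, map_one]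
  have hg1 : QuotientGroup.mk' Q y ≠ 1 := fun h => hyQ ((hπ y).mp h)
  have hle : (K ⊓ Q) ⊔ Subgroup.zpowers y ≤
      (Subgroup.zpowers (QuotientGroup.mk' Q y)).comap (QuotientGroup.mk' Q) := by
    refine sup_le (fun g hg => ?_) ?_
    · rw [Subgroup.mem_comap, (hπ g).mpr hg.2]; exact Subgroup.one_mem _
    · rw [Subgroup.zpowers_le]; exact Subgroup.mem_comap.mpr (Subgroup.mem_zpowers _)
  have hKπ : ∀ k ∈ K, QuotientGroup.mk' Q k ∈ Subgroup.zpowers (QuotientGroup.mk' Q y) :=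
    fun k hk => hle (hKgen.le hk)
  -- the centralizer of the image of `y`
  obtain ⟨S₁, hS₁⟩ : ∃ S₁ : Subgroup X, ∀ g : X, g ∈ S₁ ↔
      QuotientGroup.mk' Q y * QuotientGroup.mk' Q g =
        QuotientGroup.mk' Q g * QuotientGroup.mk' Q y := by
    refine ⟨(Subgroup.centralizer ({QuotientGroup.mk' Q y} : Set (X ⧸ Q))).comap
      (QuotientGroup.mk' Q), fun g => ?_⟩
    rw [Subgroup.mem_comap, Subgroup.mem_centralizer_iff]
    constructor
    · intro h; exact h _ (Set.mem_singleton _)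
    · intro h z hz; rw [Set.mem_singleton_iff.mp hz]; exact h
  have hQ'T : Q ⊔ (A ⊓ S₁) ≤ T := sup_le hQT (inf_le_left.trans (hAJ.trans hJT))
  have hQ'2 : IsPGroup 2 ↥(Q ⊔ (A ⊓ S₁) : Subgroup X) := hT2.to_le hQ'T
  have hF1 : ∀ b ∈ S₁, ∀ k ∈ K, QuotientGroup.mk' Q k * QuotientGroup.mk' Q b =
      QuotientGroup.mk' Q b * QuotientGroup.mk' Q k := by
    intro b hb k hk
    obtain ⟨n, hn⟩ := hKπ k hk
    have hc : Commute (QuotientGroup.mk' Q y) (QuotientGroup.mk' Q b) := (hS₁ b).mp hb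
    rw [← hn]
    exact (hc.zpow_left n)
  have hF2 : K ≤ Subgroup.normalizer ((Q ⊔ (A ⊓ S₁) : Subgroup X) : Set X) := by
    apply Cfsg.Agent.H31.X.H54.le_normalizer_of_conj_mem
    intro k hk z hz
    have hz' : z ∈ ((Q ⊔ (A ⊓ S₁) : Subgroup X) : Set X) := hz
    rw [Subgroup.normal_mul] at hz'
    obtain ⟨q, hq, b, hb, rfl⟩ := Set.mem_mul.mp hz'
    have hb' : b ∈ A ⊓ S₁ := hb
    have hcomm : k * b * k⁻¹ * b⁻¹ ∈ Q := by
      rw [← hπ]
      simp only [map_mul, map_inv]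
      rw [hF1 b hb'.2 k hk]
      group
    have e : k * (q * b) * k⁻¹ = (k * q * k⁻¹) * (k * b * k⁻¹ * b⁻¹) * b := by group
    rw [e]
    exact Subgroup.mul_mem _ (Subgroup.mem_sup_left
      (Q.mul_mem (Subgroup.Normal.conj_mem inferInstance q hq k) hcomm))
      (Subgroup.mem_sup_right hb')
  have hF3 : Q ⊔ (A ⊓ S₁) ≤ Subgroup.normalizer (K : Set X) :=
    sup_le hQK (inf_le_left.trans (hAJ.trans hJK))
  have hF5 : pCoreOf 2 K ≤ Q ⊔ (A ⊓ S₁) := by rw [hpc]; exact inf_le_right.trans le_sup_left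
  have hF6 : a ∈ Subgroup.normalizer (K : Set X) := hJK (hAJ haA)
  have hF7 : a * y * a⁻¹ * y ∈ Q ⊔ (A ⊓ S₁) := by
    rw [hay, inv_mul_cancel]; exact Subgroup.one_mem _
  have hπa : QuotientGroup.mk' Q a * QuotientGroup.mk' Q y * (QuotientGroup.mk' Q a)⁻¹ =
      (QuotientGroup.mk' Q y)⁻¹ := by
    rw [← map_inv, ← map_mul, ← map_mul, hay, map_inv]
  have key : ∀ b ∈ A, b ∈ S₁ ∨ a * b ∈ S₁ := by
    intro b hb
    have hbK : b * y * b⁻¹ ∈ K :=
      (Subgroup.mem_normalizer_iff.mp (hJK (hAJ hb)) y).mp hyK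
    have hz := hKπ _ hbK
    simp only [map_mul, map_inv] at hz
    rcases zpowers_three _ _ hg3 hz with h | h | h
    · exfalso
      apply hg1
      have : QuotientGroup.mk' Q y = (QuotientGroup.mk' Q b)⁻¹ *
          (QuotientGroup.mk' Q b * QuotientGroup.mk' Q y * (QuotientGroup.mk' Q b)⁻¹) *
          QuotientGroup.mk' Q b := by group
      rw [this, h]; group
    · left
      rw [hS₁]
      have : QuotientGroup.mk' Q b * QuotientGroup.mk' Q y =
          (QuotientGroup.mk' Q b * QuotientGroup.mk' Q y * (QuotientGroup.mk' Q b)⁻¹) *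
          QuotientGroup.mk' Q b := by group
      rw [this, h]
    · right
      rw [hS₁]
      simp only [map_mul]
      have e1 : QuotientGroup.mk' Q a * QuotientGroup.mk' Q b * QuotientGroup.mk' Q y =
          QuotientGroup.mk' Q a *
          (QuotientGroup.mk' Q b * QuotientGroup.mk' Q y * (QuotientGroup.mk' Q b)⁻¹) *
          QuotientGroup.mk' Q b := by group
      have e2 : QuotientGroup.mk' Q a * (QuotientGroup.mk' Q y)⁻¹ =
          QuotientGroup.mk' Q y * QuotientGroup.mk' Q a := by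
        calc QuotientGroup.mk' Q a * (QuotientGroup.mk' Q y)⁻¹
            = (QuotientGroup.mk' Q a * QuotientGroup.mk' Q y * (QuotientGroup.mk' Q a)⁻¹)⁻¹ *
              QuotientGroup.mk' Q a := by group
          _ = QuotientGroup.mk' Q y * QuotientGroup.mk' Q a := by rw [hπa, inv_inv]
      rw [e1, h, e2, mul_assoc]
  have hF8 : Nat.card ↥A ≤ 2 * Nat.card ↥(A ⊓ (Q ⊔ (A ⊓ S₁)) : Subgroup X) := by
    classical
    have hB : ∀ g : X, g ∈ A → g ∈ S₁ → g ∈ A ⊓ (Q ⊔ (A ⊓ S₁)) :=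
      fun g hgA hgS => ⟨hgA, Subgroup.mem_sup_right ⟨hgA, hgS⟩⟩
    let f : ↥A → ↥(A ⊓ (Q ⊔ (A ⊓ S₁)) : Subgroup X) × Bool := fun b =>
      if h : (b : X) ∈ S₁ then (⟨b, hB b b.2 h⟩, true)
      else (⟨a * b, hB (a * b) (A.mul_mem haA b.2) ((key b b.2).resolve_left h)⟩, false)
    have hf : Function.Injective f := by
      intro b₁ b₂ h12
      by_cases h1 : (b₁ : X) ∈ S₁ <;> by_cases h2 : (b₂ : X) ∈ S₁
      · simp only [f, dif_pos h1, dif_pos h2, Prod.mk.injEq, Subtype.mk.injEq, and_true] at h12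
        exact Subtype.ext h12
      · simp [f, dif_pos h1, dif_neg h2] at h12
      · simp [f, dif_neg h1, dif_pos h2] at h12
      · simp only [f, dif_neg h1, dif_neg h2, Prod.mk.injEq, Subtype.mk.injEq, and_true] at h12
        exact Subtype.ext (mul_left_cancel h12)
    have h := Nat.card_le_card_of_injective f hf
    rw [Nat.card_prod, Nat.card_eq_fintype_card (α := Bool), Fintype.card_bool] at h
    omega
  have hKgen' : K = pCoreOf 2 K ⊔ Subgroup.zpowers y := by rw [hpc]; exact hKgen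
  obtain ⟨hres, -⟩ := hW4 T (Q ⊔ (A ⊓ S₁)) A K a y hQ'2 hQ'T hF2 hF3 hF5 (hAJ.trans hJT) hAel
    (fun B _ hB => hAmax B hB) haA hF6 hyK hy3 hF7 hF8 hKgen'
  have hw : wOf K = ⁅omegaCenterOf (K ⊓ Q), K⁆ := by unfold wOf; rw [hpc]
  rcases hres with h | h
  · exfalso
    rw [hw] at h
    have hZK : omegaCenterOf (K ⊓ Q) ≤ Subgroup.centralizer (K : Set X) :=
      Subgroup.commutator_eq_bot_iff_le_centralizer.mp h
    have hyV : y ∈ Subgroup.centralizer (V : Set X) := by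
      rw [Subgroup.mem_centralizer_iff]
      intro v hv
      have hwV : y * v * y⁻¹ * v⁻¹ ∈ V :=
        V.mul_mem (Subgroup.Normal.conj_mem inferInstance v hv y) (V.inv_mem hv)
      have hwK : y * v * y⁻¹ * v⁻¹ ∈ K := by
        have h1 : v * y⁻¹ * v⁻¹ ∈ K :=
          (Subgroup.mem_normalizer_iff.mp (hQK (hVQ hv)) y⁻¹).mp (K.inv_mem hyK)
        have e : y * v * y⁻¹ * v⁻¹ = y * (v * y⁻¹ * v⁻¹) := by group
        rw [e]; exact K.mul_mem hyK h1
      have hwZ : y * v * y⁻¹ * v⁻¹ ∈ omegaCenterOf (K ⊓ Q) := by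
        unfold omegaCenterOf omegaOne
        apply Subgroup.subset_closure
        refine ⟨⟨⟨hwK, hVQ hwV⟩, ?_⟩, hV.2 _ hwV⟩
        change _ ∈ Subgroup.centralizer ((K ⊓ Q : Subgroup X) : Set X)
        rw [Subgroup.mem_centralizer_iff]
        intro q hq
        have hqc := Subgroup.mem_centralizer_iff.mp (hQV hq.2) _ hwV
        exact hqc.symm
      have hwy : y * (y * v * y⁻¹ * v⁻¹) = (y * v * y⁻¹ * v⁻¹) * y :=
        Subgroup.mem_centralizer_iff.mp (hZK hwZ) y hyK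
      have hww : (y * v * y⁻¹ * v⁻¹) * (y * v * y⁻¹ * v⁻¹) = 1 := by
        rw [← pow_two]; exact hV.2 _ hwV
      have e3 : y * y * v * y⁻¹ * y⁻¹ = v := by
        calc y * y * v * y⁻¹ * y⁻¹
            = (y * (y * v * y⁻¹ * v⁻¹)) * y⁻¹ * (y * v * y⁻¹ * v⁻¹) * v := by group
          _ = ((y * v * y⁻¹ * v⁻¹) * y) * y⁻¹ * (y * v * y⁻¹ * v⁻¹) * v := by rw [hwy]
          _ = ((y * v * y⁻¹ * v⁻¹) * (y * v * y⁻¹ * v⁻¹)) * v := by group
          _ = v := by rw [hww, one_mul]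
      have hs : (y * y) * v = v * (y * y) := by
        calc (y * y) * v = (y * y * v * y⁻¹ * y⁻¹) * (y * y) := by group
          _ = v * (y * y) := by rw [e3]
      have hy4 : y = (y * y) * (y * y) := by
        have : (y * y) * (y * y) = y ^ 3 * y := by
          rw [pow_succ, pow_two]; simp only [mul_assoc]
        rw [this, hy31, one_mul]
      calc v * y = v * ((y * y) * (y * y)) := by rw [← hy4]
        _ = (v * (y * y)) * (y * y) := by group
        _ = ((y * y) * v) * (y * y) := by rw [hs]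
        _ = (y * y) * (v * (y * y)) := by group
        _ = (y * y) * ((y * y) * v) := by rw [hs]
        _ = ((y * y) * (y * y)) * v := by group
        _ = y * v := by rw [← hy4]
    have hKV : K ≤ Subgroup.centralizer (V : Set X) := by
      rw [hKgen]
      exact sup_le (inf_le_right.trans hQV) (by rw [Subgroup.zpowers_le]; exact hyV)
    have hbot : ⁅V, K⁆ = ⊥ :=
      Subgroup.commutator_eq_bot_iff_le_centralizer.mpr (Subgroup.le_centralizer_iff.mp hKV)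
    rw [hbot, Subgroup.card_bot] at hVK
    omega
  · rw [← hw]; exact h

end Cfsg.Agent.H39.Sx
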