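import Mathlib
import Cfsg.Agent.H39.SxW
import Cfsg.Agent.H36.JxAct
import Cfsg.Agent.H3.JxCnt
import Cfsg.Agent.H12.JxSq
import Cfsg.Agent.H16.JxFun

/-!
SX-W (helper39, for helper19's EXIST project): `w : StW`, hypothesis-free, from helper82's
JX chain (`w4_of` with the landed pieces ACT, CNT, SQ, FUN) through the bridge `w_of_w4`.
-/

set_option autoImplicit false

namespace Cfsg.Agent.H39.Sx

universe u

theorem w4 : Cfsg.Agent.H82.Jx.StW4.{u} :=
  Cfsg.Agent.H82.Jx.w4_of Cfsg.Agent.H36.Jx.act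
    (fun hSq hFun => Cfsg.Agent.H3.Jx.cnt hSq hFun) Cfsg.Agent.H12.Jx.sq Cfsg.Agent.H16.Jx.fn

theorem w : Cfsg.Agent.H19.Sx.StW.{u} := w_of_w4 w4

end Cfsg.Agent.H39.Sx

section Check
universe u
example : Cfsg.Agent.H19.Sx.StW.{u} := Cfsg.Agent.H39.Sx.w
end Check
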