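import Mathlib
import Cfsg.Agent.H64.TmDefs

/-!
# TM-FRATT (helper64, S3701): a normal subgroup containing `a, b, x` has `G = K·⟨c,y⟩`

A Sylow 3-subgroup `P` of `K` containing `a` lies in `T` (its centre meets `C_G(a) ≤ H`, and the
3-elements of `H` lie in `T`); `N_G(P) ≤ H` by the TI property, and Frattini gives `G = H K`.
-/

set_option autoImplicit false

universe u

namespace Cfsg.Agent.H39.Tm

open Subgroup Cfsg.Agent.H64.Tm

/-- **TM-FRATT**. -/
theorem fratt (hT : StTIT.{u}) : StFratt.{u} := by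
  intro G _ _ H T a b c x y cfg K hK haK hbK hxK g
  have h3 : Fact (Nat.Prime 3) := ⟨by norm_num⟩
  have ha1 : a ≠ 1 := by
    intro h
    have h5 := (cfg.indep 1 0 0 (by simp [h])).1
    omega
  have hnormT : ∀ e ∈ H, ∀ t ∈ T, e * t * e⁻¹ ∈ T := by
    intro e he t ht
    have he' : e ∈ normalizer (T : Set G) := by rw [cfg.norm]; exact he
    exact (Subgroup.mem_normalizer_iff.mp he' t).mp ht
  have hsqe : ∀ e ∈ H, e * e = 1 → ∀ t ∈ T, (t * e) * (t * e) ∈ T := by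
    intro e he hee t ht
    have he' : e⁻¹ = e := inv_eq_of_mul_eq_one_right hee
    have h6 := hnormT e he t ht
    rw [he'] at h6
    have h7 : t * e * (t * e) = t * (e * t * e) := by group
    rw [h7]
    exact T.mul_mem ht h6
  have hxy2 : x * y * (x * y) = 1 := by
    calc x * y * (x * y) = x * (y * x) * y := by group
      _ = x * (x * y) * y := by rw [← cfg.xy]
      _ = (x * x) * (y * y) := by group
      _ = 1 := by rw [cfg.x2, cfg.y2, one_mul]
  have hsq : ∀ h ∈ H, h * h ∈ T := by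
    intro h hh
    obtain ⟨t, ht, h5 | h5 | h5 | h5⟩ := cfg.Helts h hh
    · rw [h5]; exact T.mul_mem ht ht
    · rw [h5]; exact hsqe x cfg.xH cfg.x2 t ht
    · rw [h5]; exact hsqe y cfg.yH cfg.y2 t ht
    · rw [h5]; exact hsqe (x * y) (H.mul_mem cfg.xH cfg.yH) hxy2 t ht
  have hoddT : ∀ h ∈ H, ∀ k : ℕ, h ^ (3 ^ k) = 1 → h ∈ T := by
    intro h hh k hk
    obtain ⟨m, hm⟩ : ∃ m, 3 ^ k = 2 * m + 1 := Odd.pow (by decide : Odd 3)
    have h5 : (h * h) ^ (m + 1) = h := by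
      have h6 : (h * h) ^ (m + 1) = h ^ (3 ^ k) * h := by
        rw [hm, ← pow_two, ← pow_mul, ← pow_succ, show 2 * (m + 1) = 2 * m + 1 + 1 by ring]
      rw [h6, hk, one_mul]
    rw [← h5]
    exact T.pow_mem (hsq h hh) _
  -- a Sylow 3-subgroup of `K` containing `a`
  have haK1 : (⟨a, haK⟩ : K) ≠ 1 := fun h => ha1 (congrArg Subtype.val h)
  have haK3 : (⟨a, haK⟩ : K) ^ 3 = 1 := Subtype.ext cfg.a3
  have hZ : IsPGroup 3 (Subgroup.zpowers (⟨a, haK⟩ : K)) :=
    IsPGroup.of_card (n := 1) (by rw [Nat.card_zpowers, orderOf_eq_prime haK3 haK1, pow_one])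
  obtain ⟨P, hP⟩ := hZ.exists_le_sylow
  have hfr := Sylow.normalizer_sup_eq_top P
  obtain ⟨P', hP'def⟩ : ∃ P' : Subgroup G, P' = (P : Subgroup K).map K.subtype := ⟨_, rfl⟩
  have haP' : a ∈ P' := by
    rw [hP'def]
    exact ⟨⟨a, haK⟩, hP (Subgroup.mem_zpowers _), rfl⟩
  have hP'p : IsPGroup 3 P' := by
    rw [hP'def]
    exact P.isPGroup'.map K.subtype
  have hP'T : ∀ p ∈ P', p ∈ T := by
    have hnt : Nontrivial P' := ⟨⟨⟨a, haP'⟩, 1, fun h => ha1 (congrArg Subtype.val h)⟩⟩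
    have hc := hP'p.center_nontrivial
    obtain ⟨z, hz⟩ := exists_ne (1 : Subgroup.center P')
    have hzc : ∀ p : P', p * z.1 = z.1 * p := fun p => Subgroup.mem_center_iff.mp z.2 p
    have hz1 : (z.1.1 : G) ≠ 1 := by
      intro h
      apply hz
      apply Subtype.ext
      apply Subtype.ext
      exact h
    have hza : a * z.1.1 = z.1.1 * a := congrArg Subtype.val (hzc ⟨a, haP'⟩)
    have hzH : (z.1.1 : G) ∈ H := by
      apply cfg.loc a cfg.aT ha1
      rw [Subgroup.mem_centralizer_iff]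
      intro h hh
      rw [Set.mem_singleton_iff.mp hh]
      exact hza
    have hzT : (z.1.1 : G) ∈ T := by
      obtain ⟨k, hk⟩ := hP'p z.1
      exact hoddT _ hzH k (by simpa using congrArg Subtype.val hk)
    intro p hp
    have hpz : z.1.1 * p = p * z.1.1 := (congrArg Subtype.val (hzc ⟨p, hp⟩)).symm
    have hpH : p ∈ H := by
      apply cfg.loc z.1.1 hzT hz1
      rw [Subgroup.mem_centralizer_iff]
      intro h hh
      rw [Set.mem_singleton_iff.mp hh]
      exact hpz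
    obtain ⟨k, hk⟩ := hP'p ⟨p, hp⟩
    exact hoddT _ hpH k (by simpa using congrArg Subtype.val hk)
  have hNH : ∀ n ∈ normalizer (P' : Set G), n ∈ H := by
    intro n hn
    have h5 : n * a * n⁻¹ ∈ P' := (Subgroup.mem_normalizer_iff.mp hn a).mp haP'
    exact hT G H T a b c x y cfg a cfg.aT ha1 n (hP'T _ h5)
  rw [← hP'def] at hfr
  have hg : g ∈ ((normalizer (P' : Set G) ⊔ K : Subgroup G) : Set G) := by
    rw [hfr]; exact Set.mem_univ g
  rw [Subgroup.mul_normal] at hg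
  obtain ⟨n, hn, k, hk, rfl⟩ := Set.mem_mul.mp hg
  have hnH : n ∈ H := hNH n hn
  have hk' : n * k * n⁻¹ ∈ K := hK.conj_mem k hk n
  have hab : ∀ i j : ℕ, a ^ i * b ^ j ∈ K := fun i j =>
    K.mul_mem (K.pow_mem haK i) (K.pow_mem hbK j)
  have hxc : ∀ l : ℕ, c ^ l * x = x * c ^ l := fun l =>
    ((show Commute x c from cfg.xc).pow_right l).symm.eq
  have hnk : n * k = n * k * n⁻¹ * n := by group
  obtain ⟨t, ht, h5 | h5 | h5 | h5⟩ := cfg.Helts n hnH
  all_goals obtain ⟨i, j, l, rfl⟩ := cfg.Telts t ht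
  · refine ⟨n * k * n⁻¹ * (a ^ i * b ^ j), K.mul_mem hk' (hab i j), l, 0, ?_⟩
    rw [pow_zero, mul_one]
    calc n * k = n * k * n⁻¹ * n := hnk
      _ = n * k * n⁻¹ * (a ^ i * b ^ j * c ^ l) := by rw [← h5]
      _ = n * k * n⁻¹ * (a ^ i * b ^ j) * c ^ l := by simp only [mul_assoc]
  · refine ⟨n * k * n⁻¹ * (a ^ i * b ^ j * x), K.mul_mem hk' (K.mul_mem (hab i j) hxK), l, 0, ?_⟩
    rw [pow_zero, mul_one]
    calc n * k = n * k * n⁻¹ * n := hnk
      _ = n * k * n⁻¹ * (a ^ i * b ^ j * c ^ l * x) := by rw [← h5]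
      _ = n * k * n⁻¹ * (a ^ i * b ^ j * x) * c ^ l := by
        rw [mul_assoc (a ^ i * b ^ j) (c ^ l) x, hxc l]; simp only [mul_assoc]
  · refine ⟨n * k * n⁻¹ * (a ^ i * b ^ j), K.mul_mem hk' (hab i j), l, 1, ?_⟩
    rw [pow_one]
    calc n * k = n * k * n⁻¹ * n := hnk
      _ = n * k * n⁻¹ * (a ^ i * b ^ j * c ^ l * y) := by rw [← h5]
      _ = n * k * n⁻¹ * (a ^ i * b ^ j) * c ^ l * y := by simp only [mul_assoc]
  · refine ⟨n * k * n⁻¹ * (a ^ i * b ^ j * x), K.mul_mem hk' (K.mul_mem (hab i j) hxK), l, 1, ?_⟩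
    rw [pow_one]
    calc n * k = n * k * n⁻¹ * n := hnk
      _ = n * k * n⁻¹ * (a ^ i * b ^ j * c ^ l * (x * y)) := by rw [← h5]
      _ = n * k * n⁻¹ * (a ^ i * b ^ j * (c ^ l * x) * y) := by simp only [mul_assoc]
      _ = n * k * n⁻¹ * (a ^ i * b ^ j * x) * c ^ l * y := by
        rw [hxc l]; simp only [mul_assoc]

end Cfsg.Agent.H39.Tm

example (hT : Cfsg.Agent.H64.Tm.StTIT.{u}) : Cfsg.Agent.H64.Tm.StFratt.{u} :=
  Cfsg.Agent.H39.Tm.fratt.{u} hT
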