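import Cfsg.Agent.H64.TtDefs

/-!
# TT-CONN (helper64, S3385): the orbital digraph of a primitive group is connected
-/

set_option autoImplicit false

namespace Cfsg.Agent.H39.Tt

universe u v

open MulAction
open scoped Pointwise

section
variable {G : Type u} [Group G] {Ω : Type v} [MulAction G Ω]

/-- the smallest set containing `y` and closed under the arcs `(h • a, h • b)` -/
def Dset (G : Type u) [Group G] {Ω : Type v} [MulAction G Ω] (a b y : Ω) : Set Ω :=
  ⋂₀ {S : Set Ω | y ∈ S ∧ ∀ h : G, h • a ∈ S → h • b ∈ S}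

theorem mem_Dset_self (a b y : Ω) : y ∈ Dset G a b y := by
  intro S hS
  exact hS.1

theorem Dset_closed (a b y : Ω) (h : G) (hh : h • a ∈ Dset G a b y) : h • b ∈ Dset G a b y := by
  intro S hS
  exact hS.2 h (hh S hS)

theorem Dset_min (a b y : Ω) (S : Set Ω) (hy : y ∈ S) (hS : ∀ h : G, h • a ∈ S → h • b ∈ S) :
    Dset G a b y ⊆ S := by
  intro z hz
  exact hz S ⟨hy, hS⟩

theorem Dset_smul_sub (a b y : Ω) (g : G) : Dset G a b (g • y) ⊆ g • Dset G a b y := by
  apply Dset_min
  · exact Set.smul_mem_smul_set (mem_Dset_self a b y)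
  · intro h hh
    rw [Set.mem_smul_set_iff_inv_smul_mem] at hh ⊢
    rw [smul_smul] at hh ⊢
    exact Dset_closed a b y _ hh

theorem Dset_smul (a b y : Ω) (g : G) : g • Dset G a b y = Dset G a b (g • y) := by
  apply Set.Subset.antisymm
  · have h1 := Dset_smul_sub (G := G) a b (g • y) g⁻¹
    rw [inv_smul_smul] at h1
    intro z hz
    rw [Set.mem_smul_set_iff_inv_smul_mem] at hz
    have h2 := h1 hz
    rw [Set.mem_smul_set_iff_inv_smul_mem, inv_inv, smul_inv_smul] at h2
    exact h2
  · exact Dset_smul_sub a b y g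

theorem Dset_sub_of_mem (a b y z : Ω) (hz : z ∈ Dset G a b y) : Dset G a b z ⊆ Dset G a b y :=
  Dset_min a b z _ hz (Dset_closed a b y)

theorem ncard_Dset [Finite Ω] [IsPretransitive G Ω] (a b y z : Ω) :
    (Dset G a b z).ncard = (Dset G a b y).ncard := by
  obtain ⟨g, rfl⟩ := MulAction.exists_smul_eq G y z
  rw [← Dset_smul, ← Set.image_smul, Set.ncard_image_of_injective _ (MulAction.injective g)]

theorem Dset_eq_of_mem [Finite Ω] [IsPretransitive G Ω] (a b y z : Ω) (hz : z ∈ Dset G a b y) :
    Dset G a b z = Dset G a b y :=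
  Set.eq_of_subset_of_ncard_le (Dset_sub_of_mem a b y z hz) (ncard_Dset a b z y).le
    (Set.toFinite _)

end

theorem conn : Cfsg.Agent.H64.Tt.ConnStmt.{u, v} := by
  intro G _ _ Ω _ hprim a b hab V hV hcl
  haveI : IsPretransitive G Ω := hprim.toIsPretransitive
  haveI : Finite Ω := Finite.of_surjective (fun g : G => g • a) (fun y => MulAction.exists_smul_eq G a y)
  -- `Dset a` is a block
  have hblock : IsBlock G (Dset G a b a) := by
    rw [MulAction.isBlock_iff_smul_eq_of_nonempty]
    intro g hg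
    obtain ⟨z, hz⟩ := hg
    rw [Dset_smul] at hz ⊢
    have h1 := Dset_eq_of_mem (G := G) a b _ z hz.1
    have h2 := Dset_eq_of_mem (G := G) a b _ z hz.2
    rw [← h1, h2]
  have htriv := hprim.isTrivialBlock_of_isBlock hblock
  have hDa : Dset G a b a = Set.univ := by
    rcases htriv with h | h
    · exfalso
      apply hab
      apply h (mem_Dset_self a b a)
      have := Dset_closed (G := G) a b a 1 (by rw [one_smul]; exact mem_Dset_self a b a)
      rwa [one_smul] at this
    · exact h
  obtain ⟨y, hy⟩ := hV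
  obtain ⟨g, rfl⟩ := MulAction.exists_smul_eq G a y
  have hsub : Dset G a b (g • a) ⊆ V := Dset_min a b _ V hy hcl
  rw [← Dset_smul, hDa, Set.smul_set_univ] at hsub
  exact Set.eq_univ_of_univ_subset hsub

end Cfsg.Agent.H39.Tt
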