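import Cfsg.Agent.H64.TtDefs

/-!
# TT-TWO (helper64, S3385): the two-point stabiliser is a 2-group of index 3
-/

set_option autoImplicit false

namespace Cfsg.Agent.H39.Tt

universe u v

open MulAction

section
variable {G : Type u} [Group G] {Ω : Type v} [MulAction G Ω]

theorem card_orbit_mul_inf (a b : Ω) :
    Nat.card (orbit (stabilizer G a) b) * Nat.card (stabilizer G a ⊓ stabilizer G b : Subgroup G)
      = Nat.card (stabilizer G a) := by
  have e : stabilizer (stabilizer G a) b ≃ (stabilizer G a ⊓ stabilizer G b : Subgroup G) :=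
    ⟨fun x => ⟨x.1.1, x.1.2, x.2⟩, fun y => ⟨⟨y.1, y.2.1⟩, y.2.2⟩, fun _ => rfl, fun _ => rfl⟩
  rw [← Nat.card_congr e, Nat.card_congr (MulAction.orbitEquivQuotientStabilizer (stabilizer G a) b)]
  exact (Subgroup.card_eq_card_quotient_mul_card_subgroup _).symm

theorem card_stab_eq [IsPretransitive G Ω] (a b : Ω) :
    Nat.card (stabilizer G b) = Nat.card (stabilizer G a) := by
  obtain ⟨g, rfl⟩ := MulAction.exists_smul_eq G a b
  rw [MulAction.stabilizer_smul_eq_stabilizer_map_conj]
  exact Subgroup.card_map_of_injective (MulAut.conj g).injective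

theorem smul_mem_orbit_stab (a b c : Ω) (hc : c ∈ orbit (stabilizer G a) b) (h : G)
    (hh : h ∈ stabilizer G a) : h • c ∈ orbit (stabilizer G a) b := by
  obtain ⟨g, rfl⟩ := hc
  exact ⟨⟨h, hh⟩ * g, mul_smul _ _ _⟩

theorem odd_fix (a b : Ω) (h3 : Nat.card (orbit (stabilizer G a) b) = 3) (h : G)
    (ha : h ∈ stabilizer G a) (hb : h ∈ stabilizer G b) (hodd : Odd (orderOf h))
    (c : Ω) (hc : c ∈ orbit (stabilizer G a) b) : h • c = c := by
  by_contra hne
  have hbfix : h • b = b := hb
  have hcb : c ≠ b := by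
    rintro rfl
    exact hne hbfix
  have hbΔ : b ∈ orbit (stabilizer G a) b := MulAction.mem_orbit_self b
  have hncard : (orbit (stabilizer G a) b).ncard = 3 := by
    rw [← Nat.card_coe_set_eq]; exact h3
  have hΔfin : (orbit (stabilizer G a) b).Finite := by
    apply Set.finite_of_ncard_ne_zero
    rw [hncard]; norm_num
  have hSfin : (orbit (stabilizer G a) b \ {b}).Finite := hΔfin.subset Set.sdiff_subset
  have hScard : (orbit (stabilizer G a) b \ {b}).ncard = 2 := by
    rw [Set.ncard_sdiff_singleton_of_mem hbΔ, hncard]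
  have hmemS : ∀ z ∈ orbit (stabilizer G a) b \ {b}, h • z ∈ orbit (stabilizer G a) b \ {b} := by
    intro z hz
    refine ⟨smul_mem_orbit_stab a b z hz.1 h ha, ?_⟩
    intro hzb
    apply hz.2
    have : h • z = h • b := by rw [hbfix]; exact hzb
    exact MulAction.injective h this
  have hcS : c ∈ orbit (stabilizer G a) b \ {b} := ⟨hc, hcb⟩
  have hpair : ({c, h • c} : Set Ω) = orbit (stabilizer G a) b \ {b} := by
    apply Set.eq_of_subset_of_ncard_le
    · intro z hz
      rcases hz with rfl | rfl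
      · exact hcS
      · exact hmemS _ hcS
    · rw [hScard, Set.ncard_pair (Ne.symm hne)]
    · exact hSfin
  have hhh : h • h • c ∈ ({c, h • c} : Set Ω) := by
    rw [hpair]; exact hmemS _ (hmemS _ hcS)
  have h2 : h • h • c = c := by
    rcases hhh with h1 | h1
    · exact h1
    · exact absurd (MulAction.injective h h1) hne
  obtain ⟨m, hm⟩ := hodd
  have hpow : ∀ n : ℕ, (h ^ 2) ^ n • c = c := by
    intro n
    induction n with
    | zero => simp
    | succ n ih =>
      have h5 : h ^ 2 • c = c := by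
        rw [pow_two, mul_smul]
        exact h2
      rw [pow_succ, mul_smul, h5, ih]
  have h1 : h ^ (2 * m + 1) = 1 := by rw [← hm]; exact pow_orderOf_eq_one h
  have h4 : h ^ (2 * m + 1) • c = h • c := by
    rw [pow_succ', pow_mul, mul_smul, hpow]
  rw [h1, one_smul] at h4
  exact hne h4.symm

theorem conj_mem_inf (a b : Ω) (h3 : Nat.card (orbit (stabilizer G a) b) = 3) (g : G)
    (hg : g ∈ stabilizer G a) (h : G) (hh : h ∈ stabilizer G a ⊓ stabilizer G b)
    (hodd : Odd (orderOf h)) : g * h * g⁻¹ ∈ stabilizer G a ⊓ stabilizer G b := by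
  have hh1 : h ∈ stabilizer G a := (Subgroup.mem_inf.mp hh).1
  have hh2 : h ∈ stabilizer G b := (Subgroup.mem_inf.mp hh).2
  refine Subgroup.mem_inf.mpr ⟨mul_mem (mul_mem hg hh1) (inv_mem hg), ?_⟩
  rw [MulAction.mem_stabilizer_iff, mul_smul, mul_smul]
  have hc : g⁻¹ • b ∈ orbit (stabilizer G a) b := ⟨⟨g⁻¹, inv_mem hg⟩, rfl⟩
  rw [odd_fix a b h3 h hh1 hh2 hodd _ hc, smul_inv_smul]

end

theorem two : Cfsg.Agent.H64.Tt.TwoStmt.{u, v} := by
  intro G _ _ Ω _ _ hprim a b h3
  have : IsPreprimitive G Ω := hprim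
  have : IsPretransitive G Ω := hprim.toIsPretransitive
  have hab : a ≠ b := by
    rintro rfl
    have horb : orbit (stabilizer G a) a = {a} := by
      ext z
      constructor
      · rintro ⟨g, rfl⟩
        exact g.2
      · rintro rfl
        exact MulAction.mem_orbit_self _
    rw [horb] at h3
    simp at h3
  have : Nontrivial Ω := ⟨⟨a, b, hab⟩⟩
  have hBpos : 0 < Nat.card (stabilizer G a ⊓ stabilizer G b : Subgroup G) := Nat.card_pos
  have hcardA : 3 * Nat.card (stabilizer G a ⊓ stabilizer G b : Subgroup G)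
      = Nat.card (stabilizer G a) := by
    rw [← card_orbit_mul_inf a b, h3]
  have hcardB : Nat.card (stabilizer G b) = Nat.card (stabilizer G a) := card_stab_eq a b
  have h3' : Nat.card (orbit (stabilizer G b) a) = 3 := by
    have h1 := card_orbit_mul_inf (G := G) b a
    rw [inf_comm, hcardB, ← hcardA] at h1
    exact Nat.eq_of_mul_eq_mul_right hBpos h1
  -- the subgroup generated by the odd order elements of the two-point stabiliser
  have hKB : Subgroup.closure {h : G | h ∈ stabilizer G a ⊓ stabilizer G b ∧ Odd (orderOf h)}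
      ≤ stabilizer G a ⊓ stabilizer G b := by
    rw [Subgroup.closure_le]
    intro h hh
    exact hh.1
  have conjK : ∀ g : G, (g ∈ stabilizer G a ∨ g ∈ stabilizer G b) →
      ∀ k ∈ Subgroup.closure {h : G | h ∈ stabilizer G a ⊓ stabilizer G b ∧ Odd (orderOf h)},
      g * k * g⁻¹ ∈
        Subgroup.closure {h : G | h ∈ stabilizer G a ⊓ stabilizer G b ∧ Odd (orderOf h)} := by
    intro g hg k hk
    induction hk using Subgroup.closure_induction with
    | mem x hx =>
      apply Subgroup.subset_closure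
      refine ⟨?_, ?_⟩
      · rcases hg with hg | hg
        · exact conj_mem_inf a b h3 g hg x hx.1 hx.2
        · have h5 := conj_mem_inf b a h3' g hg x (by rw [inf_comm]; exact hx.1) hx.2
          rw [inf_comm] at h5
          exact h5
      · have h5 : orderOf (g * x * g⁻¹) = orderOf x := MulEquiv.orderOf_eq (MulAut.conj g) x
        rw [h5]
        exact hx.2
    | one =>
      rw [mul_one, mul_inv_cancel]
      exact one_mem _
    | mul x y _ _ ihx ihy =>
      have h5 : g * (x * y) * g⁻¹ = (g * x * g⁻¹) * (g * y * g⁻¹) := by group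
      rw [h5]
      exact mul_mem ihx ihy
    | inv x _ ih =>
      have h5 : g * x⁻¹ * g⁻¹ = (g * x * g⁻¹)⁻¹ := by group
      rw [h5]
      exact inv_mem ih
  have hnorm : ∀ g : G, (g ∈ stabilizer G a ∨ g ∈ stabilizer G b) → g ∈ Subgroup.normalizer
      ((Subgroup.closure {h : G | h ∈ stabilizer G a ⊓ stabilizer G b ∧ Odd (orderOf h)} :
        Subgroup G) : Set G) := by
    intro g hg
    rw [Subgroup.mem_normalizer_iff]
    intro k
    constructor
    · exact conjK g hg k
    · intro hk
      have hg' : g⁻¹ ∈ stabilizer G a ∨ g⁻¹ ∈ stabilizer G b := by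
        rcases hg with hg | hg
        · exact Or.inl (inv_mem hg)
        · exact Or.inr (inv_mem hg)
      have h5 := conjK g⁻¹ hg' _ hk
      have e : g⁻¹ * (g * k * g⁻¹) * g⁻¹⁻¹ = k := by group
      rw [e] at h5
      exact h5
  have hcoatom : IsCoatom (stabilizer G a) :=
    MulAction.IsPreprimitive.isCoatom_stabilizer_of_isPreprimitive G a
  have hnle : ¬ stabilizer G b ≤ stabilizer G a := by
    intro hle
    have h5 : stabilizer G a ⊓ stabilizer G b = stabilizer G b := inf_eq_right.mpr hle
    rw [h5, hcardB] at hcardA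
    have h6 : 0 < Nat.card (stabilizer G a) := Nat.card_pos
    omega
  have hsup : stabilizer G a ⊔ stabilizer G b = ⊤ := by
    apply hcoatom.2
    apply lt_of_le_of_ne le_sup_left
    intro heq
    apply hnle
    rw [heq]
    exact le_sup_right
  have hKn : Subgroup.normalizer
      ((Subgroup.closure {h : G | h ∈ stabilizer G a ⊓ stabilizer G b ∧ Odd (orderOf h)} :
        Subgroup G) : Set G) = ⊤ := by
    rw [eq_top_iff, ← hsup, sup_le_iff]
    exact ⟨fun g hg => hnorm g (Or.inl hg), fun g hg => hnorm g (Or.inr hg)⟩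
  have hKnormal : (Subgroup.closure
      {h : G | h ∈ stabilizer G a ⊓ stabilizer G b ∧ Odd (orderOf h)}).Normal :=
    Subgroup.normalizer_eq_top_iff.mp hKn
  have hKbot : ∀ k ∈ Subgroup.closure
      {h : G | h ∈ stabilizer G a ⊓ stabilizer G b ∧ Odd (orderOf h)}, k = 1 := by
    intro k hk
    apply FaithfulSMul.eq_of_smul_eq_smul (α := Ω)
    intro y
    obtain ⟨g, rfl⟩ := MulAction.exists_smul_eq G a y
    rw [one_smul]
    have h1 := hKnormal.conj_mem k hk g⁻¹
    have h2 : (g⁻¹ * k * g⁻¹⁻¹) • a = a := (hKB h1).1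
    rw [inv_inv, mul_smul, mul_smul, inv_smul_eq_iff] at h2
    exact h2
  have hBpow : ∃ k : ℕ, Nat.card (stabilizer G a ⊓ stabilizer G b : Subgroup G) = 2 ^ k := by
    refine ⟨(Nat.card (stabilizer G a ⊓ stabilizer G b : Subgroup G)).primeFactorsList.length, ?_⟩
    apply Nat.eq_prime_pow_of_unique_prime_dvd hBpos.ne'
    intro p hp hpd
    by_contra hp2
    have : Fact p.Prime := ⟨hp⟩
    obtain ⟨x, hx⟩ := exists_prime_orderOf_dvd_card' p hpd
    have hx' : orderOf (x : G) = p := by
      rw [Subgroup.orderOf_coe]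
      exact hx
    have hxK : (x : G) ∈ Subgroup.closure
        {h : G | h ∈ stabilizer G a ⊓ stabilizer G b ∧ Odd (orderOf h)} := by
      apply Subgroup.subset_closure
      exact ⟨x.2, by rw [hx']; exact hp.odd_of_ne_two hp2⟩
    have h5 := hKbot _ hxK
    rw [h5, orderOf_one] at hx'
    exact hp.one_lt.ne hx'
  obtain ⟨k, hk⟩ := hBpow
  refine ⟨k, hk, ?_⟩
  rw [← hcardA, hk, mul_comm]

end Cfsg.Agent.H39.Tt
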