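import Mathlib
import Cfsg.Agent.H67.UmDefs

/-!
UM-J3 (helper39, for helper67's S2263 project): a unitary `3 × 3` matrix of order four over
the field with four elements, no power of which other than the identity is scalar.
-/

set_option autoImplicit false

open Matrix

namespace Cfsg.Agent.H39.Um

universe u

theorem j3 : Cfsg.Agent.H67.Um.StJ3.{u} := by
  classical
  intro F _ _ hcard
  have h4 : (4 : F) = 0 := by
    have := Nat.cast_card_eq_zero F
    rw [hcard] at this
    exact_mod_cast this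
  have h2 : (2 : F) = 0 := by
    have h : (2 : F) * 2 = 0 := by rw [← h4]; norm_num
    exact mul_self_eq_zero.mp h
  obtain ⟨w, hw0, hw1⟩ : ∃ w : F, w ≠ 0 ∧ w ≠ 1 := by
    have hlt : ({0, 1} : Finset F).card < (Finset.univ : Finset F).card := by
      rw [Finset.card_univ, hcard]
      exact lt_of_le_of_lt Finset.card_le_two (by norm_num)
    obtain ⟨w, -, hw⟩ := Finset.exists_mem_notMem_of_card_lt_card hlt
    simp only [Finset.mem_insert, Finset.mem_singleton, not_or] at hw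
    exact ⟨w, hw.1, hw.2⟩
  have hw3 : w ^ 3 = 1 := by
    have := FiniteField.pow_card_sub_one_eq_one w hw0
    rwa [hcard] at this
  have hw : w ^ 2 + w + 1 = 0 := by
    have h : (w - 1) * (w ^ 2 + w + 1) = 0 := by linear_combination hw3
    rcases mul_eq_zero.mp h with h | h
    · exact absurd (sub_eq_zero.mp h) hw1
    · exact h
  have hJ2 : (!![1, 1, 1; 1, w, w ^ 2; 1, w ^ 2, w] : Matrix (Fin 3) (Fin 3) F) ^ 2 =
      !![1, 0, 0; 0, 0, 1; 0, 1, 0] := by
    rw [pow_two]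
    ext i j
    fin_cases i <;> fin_cases j <;>
      simp only [Matrix.mul_apply, Fin.sum_univ_three, Matrix.of_apply, Matrix.cons_val',
        Matrix.cons_val_zero, Matrix.cons_val_one, Matrix.cons_val_two, Matrix.head_cons,
        Matrix.tail_cons, Matrix.empty_val', Matrix.cons_val_fin_one, Fin.zero_eta, Fin.mk_one,
        Fin.reduceFinMk, Matrix.head_fin_const]
    · linear_combination h2
    · linear_combination hw
    · linear_combination hw
    · linear_combination hw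
    · linear_combination hw + w * hw3
    · linear_combination w ^ 3 * h2
    · linear_combination hw
    · linear_combination w ^ 3 * h2
    · linear_combination hw + w * hw3
  have hJ4 : (!![1, 1, 1; 1, w, w ^ 2; 1, w ^ 2, w] : Matrix (Fin 3) (Fin 3) F) ^ 4 = 1 := by
    have e : (!![1, 1, 1; 1, w, w ^ 2; 1, w ^ 2, w] : Matrix (Fin 3) (Fin 3) F) ^ 4 =
        ((!![1, 1, 1; 1, w, w ^ 2; 1, w ^ 2, w] : Matrix (Fin 3) (Fin 3) F) ^ 2) ^ 2 := by
      rw [← pow_mul]
    rw [e, hJ2, pow_two]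
    ext i j
    fin_cases i <;> fin_cases j <;>
      simp [Matrix.mul_apply, Fin.sum_univ_three, Matrix.one_apply]
  refine ⟨!![1, 1, 1; 1, w, w ^ 2; 1, w ^ 2, w], ?_, ?_⟩
  · intro x y
    simp only [Cfsg.hermForm, Matrix.mulVec, dotProduct, Fin.sum_univ_three, Matrix.of_apply,
      Matrix.cons_val', Matrix.cons_val_zero, Matrix.cons_val_one, Matrix.cons_val_two,
      Matrix.head_cons, Matrix.tail_cons, Matrix.empty_val', Matrix.cons_val_fin_one,
      Fin.zero_eta, Fin.mk_one, Fin.reduceFinMk, Matrix.head_fin_const]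
    linear_combination
      ((x 0 * y 0 ^ 2 + x 1 * y 1 ^ 2 + x 2 * y 2 ^ 2) +
        (x 0 + x 1 + x 2) * (y 0 * y 1 + y 0 * y 2 + y 1 * y 2) +
        (x 0 + w * x 1 + w ^ 2 * x 2) * (w * y 0 * y 1 + w ^ 2 * y 0 * y 2 + w ^ 3 * y 1 * y 2) +
        (x 0 + w ^ 2 * x 1 + w * x 2) * (w ^ 2 * y 0 * y 1 + w * y 0 * y 2 + w ^ 3 * y 1 * y 2))
        * h2 +
      (x 0 * y 1 ^ 2 + x 0 * y 2 ^ 2 + x 1 * y 0 ^ 2 + x 2 * y 0 ^ 2 + x 1 * y 2 ^ 2 +
        x 2 * y 1 ^ 2) * hw +
      ((x 0 * y 1 ^ 2 + x 0 * y 2 ^ 2) * w + (x 1 * y 1 ^ 2 + x 2 * y 2 ^ 2) * (w ^ 3 + 2) +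
        (x 1 * y 2 ^ 2 + x 2 * y 1 ^ 2) * (w ^ 2 + w)) * hw3
  · intro N c hN
    have hmod : (!![1, 1, 1; 1, w, w ^ 2; 1, w ^ 2, w] : Matrix (Fin 3) (Fin 3) F) ^ N =
        (!![1, 1, 1; 1, w, w ^ 2; 1, w ^ 2, w] : Matrix (Fin 3) (Fin 3) F) ^ (N % 4) := by
      conv_lhs => rw [← Nat.div_add_mod N 4, pow_add, pow_mul, hJ4, one_pow, one_mul]
    rw [hmod] at hN
    have hr : N % 4 < 4 := Nat.mod_lt _ (by norm_num)
    interval_cases hN4 : N % 4
    · refine ⟨Nat.dvd_of_mod_eq_zero hN4, ?_⟩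
      have := congrFun (congrFun hN 0) 0
      simpa using this.symm
    · exfalso
      have := congrFun (congrFun hN 0) 1
      simp at this
    · exfalso
      rw [hJ2] at hN
      have := congrFun (congrFun hN 1) 2
      simp at this
    · exfalso
      have e3 : (!![1, 1, 1; 1, w, w ^ 2; 1, w ^ 2, w] : Matrix (Fin 3) (Fin 3) F) ^ 3 =
          (!![1, 1, 1; 1, w, w ^ 2; 1, w ^ 2, w] : Matrix (Fin 3) (Fin 3) F) ^ 2 *
          !![1, 1, 1; 1, w, w ^ 2; 1, w ^ 2, w] := by rw [← pow_succ]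
      rw [e3, hJ2] at hN
      have := congrFun (congrFun hN 0) 1
      simp [Matrix.mul_apply, Fin.sum_univ_three] at this

end Cfsg.Agent.H39.Um

section Check
universe u
example : Cfsg.Agent.H67.Um.StJ3.{u} := Cfsg.Agent.H39.Um.j3
end Check
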