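import Mathlib
import Cfsg.Agent.H58.UqDefs
import Cfsg.Agent.H14.Thompson

/-!
UQ-ORB (helper39, for helper58's S2950 project): the orbit of `K` under
`R = ⟨N_L(J), N_{L'}(J)⟩` stays in `𝒦₀(T)` and inside `L ∩ L'`.
-/

set_option autoImplicit false

namespace Cfsg.Agent.H39.Uq

open Cfsg Cfsg.Agent.H58.Uq

universe u

variable {G : Type u} [Group G]

theorem map_conj_eq_of_mem_normalizer (J : Subgroup G) (x : G)
    (hx : x ∈ Subgroup.normalizer (J : Set G)) : J.map (MulAut.conj x).toMonoidHom = J := by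
  ext y
  constructor
  · rintro ⟨n, hn, rfl⟩
    simpa using (Subgroup.mem_normalizer_iff.mp hx n).mp hn
  · intro hy
    refine ⟨x⁻¹ * y * x, ?_, ?_⟩
    · have := (Subgroup.mem_normalizer_iff.mp (Subgroup.inv_mem _ hx) y).mp hy
      simpa using this
    · simp [mul_assoc]

theorem map_conj_le_of_mem (K L : Subgroup G) (hKL : K ≤ L) (x : G) (hx : x ∈ L) :
    K.map (MulAut.conj x).toMonoidHom ≤ L := by
  rintro _ ⟨k, hk, rfl⟩
  simpa using L.mul_mem (L.mul_mem hx (hKL hk)) (L.inv_mem hx)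

theorem map_conj_mul (K : Subgroup G) (x y : G) :
    K.map (MulAut.conj (x * y)).toMonoidHom =
      (K.map (MulAut.conj y).toMonoidHom).map (MulAut.conj x).toMonoidHom := by
  rw [Subgroup.map_map]
  congr 1
  ext z
  simp [mul_assoc]

theorem map_conj_one (K : Subgroup G) : K.map (MulAut.conj (1 : G)).toMonoidHom = K := by
  have : (MulAut.conj (1 : G)).toMonoidHom = MonoidHom.id G := by ext z; simp
  rw [this, Subgroup.map_id]

theorem orb (hKey : StKey.{u}) (hK : StK0Conj.{u}) : StOrb.{u} := by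
  intro G _ _ hZN T hT2 hTne L L' T₁ T₂ hLmax hL'max hL hL' hJ1 hJ2 K hK0 hKL hKL' ρ hρ
  have hJx : ∀ x ∈ Subgroup.normalizer (thompsonSubgroupOf 2 T : Set G),
      thompsonSubgroupOf 2 (T.map (MulAut.conj x).toMonoidHom) = thompsonSubgroupOf 2 T := by
    intro x hx
    rw [← Cfsg.Agent.H14.thompsonSubgroupOf_conj 2 x T]
    exact map_conj_eq_of_mem_normalizer _ x hx
  have hzero : ∀ x ∈ Subgroup.normalizer (thompsonSubgroupOf 2 T : Set G), ∀ K : Subgroup G,
      K ∈ jComponentsZero T → K.map (MulAut.conj x).toMonoidHom ∈ jComponentsZero T := by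
    intro x hx K h0
    have := hK T K x h0
    rw [(k0_congr T _ (hJx x hx)).1] at this
    exact this
  have step1 : ∀ x ∈ L ⊓ Subgroup.normalizer (thompsonSubgroupOf 2 T : Set G),
      ∀ K : Subgroup G, (K ∈ jComponentsZero T ∧ K ≤ L ∧ K ≤ L') →
      (K.map (MulAut.conj x).toMonoidHom ∈ jComponentsZero T ∧
        K.map (MulAut.conj x).toMonoidHom ≤ L ∧ K.map (MulAut.conj x).toMonoidHom ≤ L') := by
    rintro x hx K ⟨h0, h1, h2⟩
    exact ⟨hzero x hx.2 K h0, map_conj_le_of_mem K L h1 x hx.1,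
      hKey hZN T hT2 hTne L' L T₂ T₁ hL'max hL' hL hJ2 hJ1 K h0 h2 h1 x hx.1⟩
  have step2 : ∀ x ∈ L' ⊓ Subgroup.normalizer (thompsonSubgroupOf 2 T : Set G),
      ∀ K : Subgroup G, (K ∈ jComponentsZero T ∧ K ≤ L ∧ K ≤ L') →
      (K.map (MulAut.conj x).toMonoidHom ∈ jComponentsZero T ∧
        K.map (MulAut.conj x).toMonoidHom ≤ L ∧ K.map (MulAut.conj x).toMonoidHom ≤ L') := by
    rintro x hx K ⟨h0, h1, h2⟩
    exact ⟨hzero x hx.2 K h0,
      hKey hZN T hT2 hTne L L' T₁ T₂ hLmax hL hL' hJ1 hJ2 K h0 h1 h2 x hx.1,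
      map_conj_le_of_mem K L' h2 x hx.1⟩
  have main : ∀ ρ ∈ (L ⊓ Subgroup.normalizer (thompsonSubgroupOf 2 T : Set G)) ⊔
      (L' ⊓ Subgroup.normalizer (thompsonSubgroupOf 2 T : Set G)),
      ∀ K : Subgroup G, (K ∈ jComponentsZero T ∧ K ≤ L ∧ K ≤ L') →
      (K.map (MulAut.conj ρ).toMonoidHom ∈ jComponentsZero T ∧
        K.map (MulAut.conj ρ).toMonoidHom ≤ L ∧ K.map (MulAut.conj ρ).toMonoidHom ≤ L') := by
    intro ρ hρ
    rw [Subgroup.sup_eq_closure] at hρ
    induction hρ using Subgroup.closure_induction'' with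
    | mem x hx =>
      rcases hx with hx | hx
      · exact step1 x hx
      · exact step2 x hx
    | inv_mem x hx =>
      rcases hx with hx | hx
      · exact step1 x⁻¹ (Subgroup.inv_mem _ hx)
      · exact step2 x⁻¹ (Subgroup.inv_mem _ hx)
    | one => intro K h; rw [map_conj_one]; exact h
    | mul x y _ _ hx hy => intro K h; rw [map_conj_mul]; exact hx _ (hy K h)
  exact main ρ hρ K ⟨hK0, hKL, hKL'⟩

end Cfsg.Agent.H39.Uq

section Check
universe u
example (hKey : Cfsg.Agent.H58.Uq.StKey.{u}) (hK : Cfsg.Agent.H58.Uq.StK0Conj.{u}) :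
    Cfsg.Agent.H58.Uq.StOrb.{u} := Cfsg.Agent.H39.Uq.orb hKey hK
end Check
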