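import Mathlib
import Cfsg.Agent.H9.XPAbs

/-!
# XP-DC (helper9, S5746): two double cosets of sizes `100 |H|` and `315 |H|` exhaust a group of
order `416 |H|`; `H` is maximal and every `H ∩ H^x` (`x ∉ H`) is maximal in `H`

`H` acts on `G ⧸ H`; the orbits of `aH`, `bH` have 100 and 315 points, so with the base point they
are all of `G ⧸ H`.  An overgroup of `H` is a union of orbits of size dividing 416.
-/

set_option autoImplicit false

universe u

namespace Cfsg.Agent.H39.XP

open Cfsg.Agent.H9.XP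

/-- **XP-DC**. -/
theorem dc : StDC.{u} := by
  intro G _ _ H U C a b hUH hUa hUco hUi hCH hCb hCco hCi hHa hHb hcard
  classical
  have hmemconj : ∀ (g z : G), z ∈ H.map (MulAut.conj g).toMonoidHom ↔ g⁻¹ * z * g ∈ H := by
    intro g z
    rw [Subgroup.mem_map_equiv, MulAut.conj_symm_apply]
  have hnotmem : ∀ c : G, ¬ H ≤ H.map (MulAut.conj c).toMonoidHom → c ∉ H := by
    intro c hc hcH
    apply hc
    intro k hk
    rw [hmemconj]
    exact H.mul_mem (H.mul_mem (H.inv_mem hcH) hk) hcH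
  have haH : a ∉ H := hnotmem a hHa
  have hbH : b ∉ H := hnotmem b hHb
  have hHpos : 0 < Nat.card H := Nat.card_pos
  have hidx : Nat.card (G ⧸ H) = 416 := by
    have h5 := H.card_mul_index
    rw [hcard] at h5
    have h6 : Nat.card H * H.index = Nat.card H * 416 := by rw [h5, mul_comm]
    exact Nat.eq_of_mul_eq_mul_left hHpos h6
  have hstab : ∀ c : G, MulAction.stabilizer ↥H ((c : G) : G ⧸ H) =
      (H.map (MulAut.conj c).toMonoidHom).subgroupOf H := by
    intro c
    ext h
    rw [MulAction.mem_stabilizer_iff, Subgroup.mem_subgroupOf, hmemconj]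
    have h5 : h • ((c : G) : G ⧸ H) = (((h : G) * c : G) : G ⧸ H) := rfl
    rw [h5, QuotientGroup.eq]
    constructor
    · intro h6
      have h7 := H.inv_mem h6
      have h8 : (((h : G) * c)⁻¹ * c)⁻¹ = c⁻¹ * h * c := by group
      rw [h8] at h7
      exact h7
    · intro h6
      have h7 := H.inv_mem h6
      have h8 : (c⁻¹ * (h : G) * c)⁻¹ = ((h : G) * c)⁻¹ * c := by group
      rw [h8] at h7
      exact h7
  have hcoeq : ∀ (c : G) (D : Subgroup G), D ≤ H.map (MulAut.conj c).toMonoidHom →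
      IsCoatom (D.subgroupOf H) → ¬ H ≤ H.map (MulAut.conj c).toMonoidHom →
      (H.map (MulAut.conj c).toMonoidHom).subgroupOf H = D.subgroupOf H := by
    intro c D hD hDco hc
    have hle : D.subgroupOf H ≤ (H.map (MulAut.conj c).toMonoidHom).subgroupOf H :=
      fun x hx => hD hx
    have hne : (H.map (MulAut.conj c).toMonoidHom).subgroupOf H ≠ ⊤ := by
      intro h5
      exact hc (Subgroup.subgroupOf_eq_top.mp h5)
    rcases eq_or_lt_of_le hle with h5 | h5
    · exact h5.symm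
    · exact absurd (hDco.2 _ h5) hne
  have hUeq := hcoeq a U hUa hUco hHa
  have hCeq := hcoeq b C hCb hCco hHb
  have hOa : (MulAction.orbit ↥H ((a : G) : G ⧸ H)).ncard = 100 := by
    rw [← MulAction.index_stabilizer, hstab, hUeq, hUi]
  have hOb : (MulAction.orbit ↥H ((b : G) : G ⧸ H)).ncard = 315 := by
    rw [← MulAction.index_stabilizer, hstab, hCeq, hCi]
  have horb : ∀ (c : G) (y : G ⧸ H), y ∈ MulAction.orbit ↥H ((c : G) : G ⧸ H) ↔
      ∃ h ∈ H, y = ((h * c : G) : G ⧸ H) := by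
    intro c y
    constructor
    · rintro ⟨h, rfl⟩
      exact ⟨h.1, h.2, rfl⟩
    · rintro ⟨h, hh, rfl⟩
      exact ⟨⟨h, hh⟩, rfl⟩
  have hform : ∀ (c x : G), ((x : G) : G ⧸ H) ∈ MulAction.orbit ↥H ((c : G) : G ⧸ H) →
      ∃ h ∈ H, ∃ h' ∈ H, x = h * c * h' := by
    intro c x hx
    obtain ⟨h, hh, h6⟩ := (horb c _).mp hx
    have h7 : x⁻¹ * (h * c) ∈ H := QuotientGroup.eq.mp h6
    exact ⟨h, hh, (x⁻¹ * (h * c))⁻¹, H.inv_mem h7, by group⟩
  have hone : ∀ x : G, ((x : G) : G ⧸ H) = ((1 : G) : G ⧸ H) → x ∈ H := by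
    intro x h6
    have h7 : x⁻¹ * 1 ∈ H := QuotientGroup.eq.mp h6
    rw [mul_one] at h7
    exact inv_inv x ▸ H.inv_mem h7
  have h1orb : ∀ c : G, c ∉ H → ((1 : G) : G ⧸ H) ∉ MulAction.orbit ↥H ((c : G) : G ⧸ H) := by
    intro c hc h5
    obtain ⟨h, hh, h', hh', h6⟩ := hform c 1 h5
    apply hc
    have h7 : c = h⁻¹ * 1 * h'⁻¹ := by rw [h6]; group
    rw [h7]
    exact H.mul_mem (H.mul_mem (H.inv_mem hh) H.one_mem) (H.inv_mem hh')
  have h1a := h1orb a haH
  have h1b := h1orb b hbH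
  have hdisj : Disjoint (MulAction.orbit ↥H ((a : G) : G ⧸ H))
      (MulAction.orbit ↥H ((b : G) : G ⧸ H)) := by
    rw [Set.disjoint_left]
    intro y hya hyb
    have h5 : MulAction.orbit ↥H ((a : G) : G ⧸ H) = MulAction.orbit ↥H ((b : G) : G ⧸ H) :=
      (MulAction.orbit_eq_iff.mpr hya).symm.trans (MulAction.orbit_eq_iff.mpr hyb)
    rw [h5, hOb] at hOa
    omega
  have hcover : ∀ y : G ⧸ H, y = ((1 : G) : G ⧸ H) ∨
      y ∈ MulAction.orbit ↥H ((a : G) : G ⧸ H) ∨ y ∈ MulAction.orbit ↥H ((b : G) : G ⧸ H) := by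
    by_contra hcon
    push Not at hcon
    obtain ⟨y, hy1, hya, hyb⟩ := hcon
    have hunion : (MulAction.orbit ↥H ((a : G) : G ⧸ H) ∪
        MulAction.orbit ↥H ((b : G) : G ⧸ H)).ncard = 415 := by
      rw [Set.ncard_union_eq hdisj (Set.toFinite _) (Set.toFinite _), hOa, hOb]
    have h1 : (insert ((1 : G) : G ⧸ H) (MulAction.orbit ↥H ((a : G) : G ⧸ H) ∪
        MulAction.orbit ↥H ((b : G) : G ⧸ H))).ncard = 416 := by
      rw [Set.ncard_insert_of_notMem (by
        rw [Set.mem_union]; exact fun h => h.elim h1a h1b) (Set.toFinite _), hunion]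
    have h2 : (insert y (insert ((1 : G) : G ⧸ H) (MulAction.orbit ↥H ((a : G) : G ⧸ H) ∪
        MulAction.orbit ↥H ((b : G) : G ⧸ H)))).ncard = 417 := by
      rw [Set.ncard_insert_of_notMem (by
        rw [Set.mem_insert_iff, Set.mem_union]
        exact fun h => h.elim hy1 (fun h => h.elim hya hyb)) (Set.toFinite _), h1]
    have h3 : (insert y (insert ((1 : G) : G ⧸ H) (MulAction.orbit ↥H ((a : G) : G ⧸ H) ∪
        MulAction.orbit ↥H ((b : G) : G ⧸ H)))).ncard ≤ Nat.card (G ⧸ H) := by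
      rw [← Set.ncard_univ]
      exact Set.ncard_le_ncard (Set.subset_univ _) (Set.toFinite _)
    omega
  have hco : IsCoatom H := by
    refine ⟨fun h5 => haH (h5 ▸ Subgroup.mem_top a), ?_⟩
    intro K hHK
    by_contra hKtop
    have hHK' : H ≤ K := hHK.le
    obtain ⟨tK, htK⟩ : ∃ tK : Set (G ⧸ H),
        tK = (fun g : G => (g : G ⧸ H)) '' (K : Set G) := ⟨_, rfl⟩
    have hpre : ((fun g : G => (g : G ⧸ H)) ⁻¹' tK : Set G) = (K : Set G) := by
      ext x
      rw [htK]
      constructor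
      · rintro ⟨k, hk, h6⟩
        have h7 : k⁻¹ * x ∈ H := QuotientGroup.eq.mp h6
        have h8 : x = k * (k⁻¹ * x) := by group
        rw [h8]
        exact K.mul_mem hk (hHK' h7)
      · intro hx
        exact ⟨x, hx, rfl⟩
    have hcardK : Nat.card K = Nat.card H * Nat.card tK := by
      have h5 := QuotientGroup.card_preimage_mk H tK
      have h6 : Nat.card (QuotientGroup.mk ⁻¹' tK : Set G) = Nat.card K := by
        have h7 : (QuotientGroup.mk ⁻¹' tK : Set G) = (K : Set G) := hpre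
        rw [h7]
        rfl
      rw [← h6]
      exact h5
    have hdvd : Nat.card K ∣ 416 * Nat.card H := by
      rw [← hcard]
      exact Subgroup.card_subgroup_dvd_card K
    have hmemK : ∀ (c : G), c ∈ K → ∀ y ∈ MulAction.orbit ↥H ((c : G) : G ⧸ H), y ∈ tK := by
      intro c hc y hy
      obtain ⟨h, hh, rfl⟩ := (horb c y).mp hy
      rw [htK]
      exact ⟨h * c, K.mul_mem (hHK' hh) hc, rfl⟩
    have hnotK : ∀ (c : G), c ∉ K → ∀ y ∈ MulAction.orbit ↥H ((c : G) : G ⧸ H), y ∉ tK := by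
      intro c hc y hy hyt
      rw [htK] at hyt
      obtain ⟨k, hk, rfl⟩ := hyt
      obtain ⟨h, hh, h', hh', h6⟩ := hform c k hy
      apply hc
      have h7 : c = h⁻¹ * k * h'⁻¹ := by rw [h6]; group
      rw [h7]
      exact K.mul_mem (K.mul_mem (K.inv_mem (hHK' hh)) hk) (K.inv_mem (hHK' hh'))
    have h1K : ((1 : G) : G ⧸ H) ∈ tK := by
      rw [htK]
      exact ⟨1, K.one_mem, rfl⟩
    have hsmall : ∀ (c : G) (n : ℕ), c ∈ K → (MulAction.orbit ↥H ((c : G) : G ⧸ H)).ncard = n →
        ((1 : G) : G ⧸ H) ∉ MulAction.orbit ↥H ((c : G) : G ⧸ H) →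
        tK = insert ((1 : G) : G ⧸ H) (MulAction.orbit ↥H ((c : G) : G ⧸ H)) →
        (n + 1) ∣ 416 := by
      intro c n hc hn h1c htKeq
      have hcd : Nat.card tK = n + 1 := by
        rw [Nat.card_coe_set_eq, htKeq, Set.ncard_insert_of_notMem h1c (Set.toFinite _), hn]
      rw [hcardK, hcd] at hdvd
      have h5 : Nat.card H * (n + 1) ∣ Nat.card H * 416 := by rwa [mul_comm 416] at hdvd
      exact (Nat.mul_dvd_mul_iff_left hHpos).mp h5
    by_cases haK : a ∈ K <;> by_cases hbK : b ∈ K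
    · apply hKtop
      rw [eq_top_iff]
      intro x _
      have hx : ((x : G) : G ⧸ H) ∈ tK := by
        rcases hcover (x : G ⧸ H) with h5 | h5 | h5
        · rw [h5]; exact h1K
        · exact hmemK a haK _ h5
        · exact hmemK b hbK _ h5
      have h6 : x ∈ ((fun g : G => (g : G ⧸ H)) ⁻¹' tK : Set G) := hx
      rw [hpre] at h6
      exact h6
    · have htKeq : tK = insert ((1 : G) : G ⧸ H) (MulAction.orbit ↥H ((a : G) : G ⧸ H)) := by
        ext y
        constructor
        · intro hy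
          rcases hcover y with h5 | h5 | h5
          · exact Or.inl h5
          · exact Or.inr h5
          · exact absurd hy (hnotK b hbK y h5)
        · rintro (h5 | h5)
          · rw [h5]; exact h1K
          · exact hmemK a haK y h5
      have h5 := hsmall a 100 haK hOa h1a htKeq
      omega
    · have htKeq : tK = insert ((1 : G) : G ⧸ H) (MulAction.orbit ↥H ((b : G) : G ⧸ H)) := by
        ext y
        constructor
        · intro hy
          rcases hcover y with h5 | h5 | h5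
          · exact Or.inl h5
          · exact absurd hy (hnotK a haK y h5)
          · exact Or.inr h5
        · rintro (h5 | h5)
          · rw [h5]; exact h1K
          · exact hmemK b hbK y h5
      have h5 := hsmall b 315 hbK hOb h1b htKeq
      omega
    · apply hHK.ne
      apply le_antisymm hHK'
      intro x hx
      have h5 : ((x : G) : G ⧸ H) ∈ tK := by
        rw [htK]
        exact ⟨x, hx, rfl⟩
      rcases hcover (x : G ⧸ H) with h6 | h6 | h6
      · exact hone x h6
      · exact absurd h5 (hnotK a haK _ h6)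
      · exact absurd h5 (hnotK b hbK _ h6)
  refine ⟨hco, ?_⟩
  intro x hx
  rw [Subgroup.inf_subgroupOf_left]
  have key : ∀ c : G, IsCoatom ((H.map (MulAut.conj c).toMonoidHom).subgroupOf H) →
      ((x : G) : G ⧸ H) ∈ MulAction.orbit ↥H ((c : G) : G ⧸ H) →
      IsCoatom ((H.map (MulAut.conj x).toMonoidHom).subgroupOf H) := by
    intro c hcco hxc
    obtain ⟨h, hh, h', hh', h6⟩ := hform c x hxc
    have h8 : IsCoatom ((MulEquiv.mapSubgroup (MulAut.conj (⟨h, hh⟩ : ↥H)))
        ((H.map (MulAut.conj c).toMonoidHom).subgroupOf H)) :=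
      (OrderIso.isCoatom_iff _ _).mpr hcco
    have h9 : (MulEquiv.mapSubgroup (MulAut.conj (⟨h, hh⟩ : ↥H)))
        ((H.map (MulAut.conj c).toMonoidHom).subgroupOf H) =
        (H.map (MulAut.conj x).toMonoidHom).subgroupOf H := by
      ext y
      show y ∈ Subgroup.map (MulAut.conj (⟨h, hh⟩ : ↥H)).toMonoidHom
        ((H.map (MulAut.conj c).toMonoidHom).subgroupOf H) ↔ _
      rw [Subgroup.mem_map_equiv, MulAut.conj_symm_apply, Subgroup.mem_subgroupOf,
        Subgroup.mem_subgroupOf, hmemconj, hmemconj]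
      have h10 : x⁻¹ * (y : G) * x = h'⁻¹ * (c⁻¹ * (h⁻¹ * (y : G) * h) * c) * h' := by
        rw [h6]; group
      have h11 : (((⟨h, hh⟩ : ↥H)⁻¹ * y * ⟨h, hh⟩ : ↥H) : G) = h⁻¹ * (y : G) * h := rfl
      rw [h10, h11]
      constructor
      · intro h12
        exact H.mul_mem (H.mul_mem (H.inv_mem hh') h12) hh'
      · intro h12
        have h13 := H.mul_mem (H.mul_mem hh' h12) (H.inv_mem hh')
        have h14 : h' * (h'⁻¹ * (c⁻¹ * (h⁻¹ * (y : G) * h) * c) * h') * h'⁻¹ =
            c⁻¹ * (h⁻¹ * (y : G) * h) * c := by group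
        rw [h14] at h13
        exact h13
    rw [← h9]
    exact h8
  have hxne : ((x : G) : G ⧸ H) ≠ ((1 : G) : G ⧸ H) := fun h6 => hx (hone x h6)
  rcases hcover (x : G ⧸ H) with h5 | h5 | h5
  · exact absurd h5 hxne
  · exact key a (hUeq ▸ hUco) h5
  · exact key b (hCeq ▸ hCco) h5

end Cfsg.Agent.H39.XP

example : Cfsg.Agent.H9.XP.StDC.{u} := Cfsg.Agent.H39.XP.dc.{u}
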